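import Mathlib
import Cfsg.Agent.Auto.CfsgLib_MaxCl_iterC_eq_def
import Cfsg.Agent.Lib.LieM.Gr
import Cfsg.Agent.Lib.Fusion.MaxClFus

/-!
Blackburn's theorem: in a group of maximal class all two-step centralizers except possibly the
last one coincide.
-/

set_option autoImplicit false

namespace CfsgLib.Fus4

open Subgroup CfsgLib.MaxCl CfsgLib.LieM CfsgLib.Fusion
open scoped commutatorElement

theorem lie_blk {A : Type*} [LieRing A] {x : A} {E : ℕ → A} (hE : ∀ i, E (i + 1) = ⁅E i, x⁆)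
    {r : ℕ} (h0 : ∀ i < r, ⁅E i, E 0⁆ = 0) :
    (∀ j i, i + j = r → ⁅E i, E j⁆ = (-1 : ℤ) ^ j • ⁅E r, E 0⁆) ∧
      ∀ j i, i + j = r + 1 →
        ⁅E i, E j⁆ = (-1 : ℤ) ^ j • (⁅E (r + 1), E 0⁆ - (j : ℤ) • ⁅⁅E r, E 0⁆, x⁆) := by
  have rc : ∀ i j, ⁅E i, E (j + 1)⁆ = ⁅⁅E i, E j⁆, x⁆ - ⁅E (i + 1), E j⁆ := fun i j => by
    rw [hE, hE, leibniz_lie, ← lie_skew (E j), sub_eq_add_neg]
  have h1 : ∀ j i, i + j < r → ⁅E i, E j⁆ = 0 := fun j => by
    induction j with
    | zero => exact h0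
    | succ j ih => intro i hi; rw [rc, ih i (by omega), ih (i + 1) (by omega)]; simp
  have h2 : ∀ j i, i + j = r → ⁅E i, E j⁆ = (-1 : ℤ) ^ j • ⁅E r, E 0⁆ := fun j => by
    induction j with
    | zero => rintro i rfl; simp
    | succ j ih => intro i hi; rw [rc, h1 j i (by omega), ih (i + 1) (by omega), pow_succ]; simp
  refine ⟨h2, fun j => ?_⟩
  induction j with
  | zero => rintro i hi; simp [show i = r + 1 from hi]
  | succ j ih =>
    intro i hi
    rw [rc, h2 j i (by omega), ih (i + 1) (by omega), pow_succ, zsmul_lie]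
    push_cast
    module

variable {G : Type*} [Group G] [Finite G] {p n : ℕ} [hp : Fact p.Prime]

theorem blackburn (h : MC G p n) {j : ℕ} (hj : 1 ≤ j) (hn : j + 4 ≤ n) : K G j = K G 1 := by
  by_cases hb : p + 2 ≤ n
  · exact h.K_eq hb hj (by omega)
  obtain ⟨s, hs⟩ := h.exists_unif
  obtain ⟨y, hy, hy1⟩ := h.exists_mem_K le_rfl
  have mem : ∀ i, iterC s y i ∈ L G i := fun i => by simpa using iterC_mem (i := 0) s (mem_top y) i
  have nm : ∀ i, i + 3 ≤ n → iterC s y (i + 1) ∉ L G (i + 2) := fun i hi => by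
    induction i with
    | zero => exact h.comm_not_mem_two (L_le_K 1) hy hy1 (hs.2 1 le_rfl (by omega))
    | succ i ih => exact h.comm_not_mem (by omega) (hs.2 _ (by omega) (by omega)) (mem _) (ih (by omega))
  suffices H : ∀ r, r + 4 ≤ n → ⁅iterC s y r, y⁆ ∈ L G (r + 2) by
    refine h.eq_of_mem (L_le_K _) (L_le_K _) (h.K_ne_top (by omega)) (h.K_ne_top (by omega)) ?_ hy hy1
    by_contra hK
    obtain ⟨i, rfl⟩ : ∃ i, j = i + 1 := ⟨j - 1, by omega⟩
    exact h.comm_not_mem hj hK (mem _) (nm i (by omega)) (H _ hn)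
  intro r
  induction r using Nat.strong_induction_on with
  | _ r ih =>
  intro hr
  rcases Nat.lt_or_ge r 2 with h2 | h2
  · interval_cases r
    · simp [iterC]
    · exact mem_K.1 hy _ (mem 1)
  let E : ℕ → Gr G := fun i => el i (iterC s y i)
  have hE : ∀ i, E (i + 1) = ⁅E i, el 0 s⁆ := fun i =>
    (lie_el (j := 0) (mem i) (mem_top s)).symm
  have e0 : ∀ i, ⁅E i, E 0⁆ = el (i + 1) ⁅iterC s y i, y⁆ := fun i =>
    lie_el (j := 0) (mem i) (mem_top y)
  have h0 : ∀ i < r, ⁅E i, E 0⁆ = 0 := fun i hi =>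
    (e0 i).trans ((el_eq_zero_iff (comm_mem_L (mem i) y)).2 (ih i hi (by omega)))
  obtain ⟨h3, h4⟩ := lie_blk hE h0
  rw [← el_eq_zero_iff (comm_mem_L (mem r) y), ← e0]
  have u : ∀ (m : ℕ) (a : Gr G), (-1 : ℤ) ^ m • a = 0 → a = 0 := fun m a H => by
    rcases neg_one_pow_eq_or ℤ m with e | e <;> simpa [e] using H
  obtain ⟨m, hm | hm⟩ := Nat.even_or_odd' r
  · exact u m _ ((h3 m m (by omega)).symm.trans (lie_self _))
  have h5 := sub_eq_zero.1 (u _ _ ((h4 (m + 1) (m + 1) (by omega)).symm.trans (lie_self _)))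
  have h6 : ⁅⁅E r, E 0⁆, E 0⁆ = 0 := u 1 _ (by
    rw [← zsmul_lie, ← h3 1 (r - 1) (by omega), lie_lie, h0 1 (by omega), h0 (r - 1) (by omega)]
    simp)
  obtain ⟨a, ha, b, e⟩ : ∃ a ∈ L G (r + 2), ∃ b : ℕ, ⁅iterC s y r, y⁆ = a * iterC s y (r + 1) ^ b := by
    have := h.le_of_mem (D := L G (r + 2) ⊔ zpowers (iterC s y (r + 1))) (by omega) le_sup_left
      (mem _) (nm r (by omega)) (mem_sup_right (mem_zpowers _)) (comm_mem_L (mem r) y)
    rw [← SetLike.mem_coe, normal_mul] at this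
    obtain ⟨a, ha, b, hb, e⟩ := this
    obtain ⟨b, rfl⟩ := (mem_powers_iff_mem_zpowers.2 hb)
    exact ⟨a, ha, b, e.symm⟩
  have h7 : ⁅E r, E 0⁆ = b • E (r + 1) := by
    rw [e0, e, el_mul (L_anti (by omega) ha) (pow_mem (mem _) _),
      (el_eq_zero_iff (L_anti (by omega) ha)).2 ha, el_pow (mem _), zero_add]
  rw [h7, nsmul_lie, h5, h7, nsmul_lie, ← hE, natCast_zsmul, smul_smul, smul_smul,
    ← el_pow (mem _), el_eq_zero_iff (pow_mem (mem _) _)] at h6
  have h8 : p ∣ b * (m + 1) * b := by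
    by_contra hd
    obtain ⟨k, hk⟩ := h.pgroup (iterC s y (r + 2))
    have := ((Nat.Coprime.pow_right k ((Nat.coprime_comm.1
      (hp.out.coprime_iff_not_dvd.2 hd)))).coprime_dvd_right (orderOf_dvd_of_pow_eq_one hk))
    obtain ⟨t, ht⟩ := exists_pow_eq_self_of_coprime this
    exact nm (r + 1) (by omega) (ht ▸ pow_mem h6 t)
  have h9 : p ∣ b := by
    rcases (Nat.Prime.dvd_mul hp.out).1 h8 with h8 | h8
    · exact ((Nat.Prime.dvd_mul hp.out).1 h8).resolve_right fun H => by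
        have := Nat.le_of_dvd (by omega) H
        have := hp.out.two_le
        omega
    · exact h8
  obtain ⟨c, rfl⟩ := h9
  rw [h7, ← el_pow (mem _), el_eq_zero_iff (pow_mem (mem _) _), pow_mul]
  exact pow_mem (L_anti (by have := hp.out.two_le; omega) (h.pow_mem (by omega) (mem _))) c

end CfsgLib.Fus4
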