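import Mathlib

/-!
A vector space with a complete flag and a regular nilpotent operator.
-/

set_option autoImplicit false

namespace CfsgLib.Fus4

open Module Polynomial

variable {K V : Type*} [Field K] [AddCommGroup V] [Module K V] {W : ℕ → Submodule K V}
  {Z Z' σ : End K V} {a b d k m n t : ℕ} {v v₀ : V} {c c' : K}

/-- Operators raising the filtration `W` by `n`. -/
def Fl (W : ℕ → Submodule K V) (n : ℕ) : Submodule K (End K V) where
  carrier := {Z | ∀ t, ∀ v ∈ W t, Z v ∈ W (t + n)}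
  add_mem' := fun h h' t v hv => add_mem (h t v hv) (h' t v hv)
  zero_mem' := fun _ _ _ => zero_mem _
  smul_mem' := fun c _ h t v hv => Submodule.smul_mem _ c (h t v hv)

theorem fl_mul (h : Z ∈ Fl W a) (h' : Z' ∈ Fl W b) (e : n = a + b) : Z * Z' ∈ Fl W n :=
  fun t v hv => by rw [e, add_comm a, ← add_assoc]; exact h _ _ (h' t v hv)

theorem fl_one : (1 : End K V) ∈ Fl W 0 := fun _ _ hv => hv

theorem fl_pow (h : Z ∈ Fl W a) (m : ℕ) : Z ^ m ∈ Fl W (a * m) := by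
  induction m with
  | zero => exact fl_one
  | succ m ih => rw [pow_succ]; exact fl_mul ih h rfl

theorem fl_mono (hW : Antitone W) (h : Z ∈ Fl W a) (e : b ≤ a) : Z ∈ Fl W b :=
  fun t v hv => hW (by omega) (h t v hv)

theorem fl_zero_of (hW : Antitone W) (h : Z - 1 ∈ Fl W a) : Z ∈ Fl W 0 := by
  simpa using add_mem (fl_mono hW h a.zero_le) fl_one

theorem fl_binom (hW : Antitone W) (h : Z - 1 ∈ Fl W a) (m : ℕ) :
    Z ^ m - 1 - (m : K) • (Z - 1) ∈ Fl W (a + a) := by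
  induction m with
  | zero => simp
  | succ m ih =>
    have := add_mem (fl_mul ih (fl_zero_of hW h) rfl) (Submodule.smul_mem _ (m : K) (fl_mul h h rfl))
    have e : Z ^ (m + 1) - 1 - ((m + 1 : ℕ) : K) • (Z - 1) =
        (Z ^ m - 1 - (m : K) • (Z - 1)) * Z + (m : K) • ((Z - 1) * (Z - 1)) := by
      simp only [pow_succ, Nat.cast_succ, sub_mul, mul_sub, smul_sub, add_smul, one_mul, mul_one,
        smul_mul_assoc, one_smul]
      abel
    exact e ▸ this

theorem fl_inv (hW : Antitone W) {x : (End K V)ˣ} (hx : ∀ t, ∀ v ∈ W t, (↑x⁻¹ : End K V) v ∈ W t)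
    (h : (x : End K V) - 1 ∈ Fl W a) : (↑x⁻¹ : End K V) - 1 ∈ Fl W a := by
  have := neg_mem (fl_mul h (a := a) (b := 0) hx rfl)
  rwa [sub_mul, Units.mul_inv, one_mul, neg_sub] at this

/-- The stabilizer of `X` acting trivially modulo `Y`. -/
def st (X Y : Submodule K V) : Subgroup (End K V)ˣ where
  carrier := {g | (∀ v, (g : End K V) v ∈ X ↔ v ∈ X) ∧ ∀ v ∈ X, (g : End K V) v - v ∈ Y}
  one_mem' := ⟨fun _ => Iff.rfl, fun v _ => by simp⟩
  mul_mem' := fun {g h} hg hh => ⟨fun v => (hg.1 _).trans (hh.1 v), fun v hv => by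
    simpa using add_mem (hg.2 _ ((hh.1 v).2 hv)) (hh.2 v hv)⟩
  inv_mem' := fun {g} hg => by
    have e : ∀ v, (g : End K V) ((↑g⁻¹ : End K V) v) = v := fun v => by
      rw [← End.mul_apply, Units.mul_inv, End.one_apply]
    have := fun v => (hg.1 ((↑g⁻¹ : End K V) v)).symm.trans (by rw [e])
    exact ⟨this, fun v hv => by simpa [e] using neg_mem (hg.2 _ ((this v).2 hv))⟩

theorem ap_inv (g : (End K V)ˣ) (v : V) : (g : End K V) ((↑g⁻¹ : End K V) v) = v := by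
  rw [← End.mul_apply, Units.mul_inv, End.one_apply]

theorem inv_ap (g : (End K V)ˣ) (v : V) : (↑g⁻¹ : End K V) ((g : End K V) v) = v := by
  rw [← End.mul_apply, Units.inv_mul, End.one_apply]

theorem mem_st_self {X : Submodule K V} {g : (End K V)ˣ} (h : ∀ v, (g : End K V) v ∈ X ↔ v ∈ X) :
    g ∈ st X X := ⟨h, fun v hv => sub_mem ((h v).2 hv) hv⟩

theorem le_st {X : Submodule K V} {G : Subgroup (End K V)ˣ}
    (h : ∀ g ∈ G, ∀ v ∈ X, (g : End K V) v ∈ X) : G ≤ st X X := fun g hg =>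
  mem_st_self fun v => ⟨fun H => inv_ap g v ▸ h _ (inv_mem hg) _ H, h g hg v⟩

theorem st_conj {X Y : Submodule K V} {g x : (End K V)ˣ} (hX : g ∈ st X X) (hY : g ∈ st Y Y)
    (hx : x ∈ st X Y) : g * x * g⁻¹ ∈ st X Y :=
  ⟨fun v => (hX.1 _).trans ((hx.1 _).trans ((inv_mem hX).1 v)), fun v hv => by
    simpa [ap_inv] using (hY.1 _).2 (hx.2 _ (((inv_mem hX).1 v).2 hv))⟩

theorem exists_pow_of_nil {R : Type*} [Ring R] {p : ℕ} [hp : Fact p.Prime] (hR : (p : R) = 0)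
    {g : R} (h : IsNilpotent (g - 1)) : ∃ n, g ^ p ^ n = 1 := by
  obtain ⟨n, hn⟩ := h
  refine ⟨n, ?_⟩
  rcases subsingleton_or_nontrivial R with _ | _
  · exact Subsingleton.elim _ _
  have : CharP R p := (CharP.charP_iff_prime_eq_zero hp.out).2 hR
  have h4 := sub_pow_char_pow_of_commute p n (Commute.one_right g)
  rwa [pow_eq_zero_of_le (Nat.lt_pow_self hp.out.one_lt).le hn, one_pow, eq_comm, sub_eq_zero] at h4

theorem isPGroup_of_nil {R : Type*} [Ring R] {p : ℕ} [hp : Fact p.Prime] (hR : (p : R) = 0)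
    {G : Subgroup Rˣ} (h : ∀ g ∈ G, IsNilpotent ((g : R) - 1)) : IsPGroup p G := fun g =>
  (exists_pow_of_nil hR (h g.1 g.2)).imp fun _ e => Subtype.ext (Units.ext (by simpa using e))

theorem pg_of_pow {G : Type*} [Group G] {p n : ℕ} {x : G} (h : x ^ p ^ n = 1) :
    IsPGroup p (Subgroup.zpowers x) := by
  rintro ⟨_, j, rfl⟩
  refine ⟨n, Subtype.ext ?_⟩
  change (x ^ j) ^ p ^ n = 1
  rw [← zpow_natCast, zpow_comm, zpow_natCast, h, one_zpow]

theorem geom_sum_char {R : Type*} [Ring R] {p : ℕ} [hp : Fact p.Prime] [Algebra (ZMod p) R]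
    (A : R) : ∑ i ∈ Finset.range p, A ^ i = (A - 1) ^ (p - 1) := by
  have h : ∑ i ∈ Finset.range p, (X : (ZMod p)[X]) ^ i = (X - 1) ^ (p - 1) :=
    mul_right_cancel₀ (X_sub_C_ne_zero 1) (by
      rw [C_1, geom_sum_mul, ← pow_succ, Nat.sub_add_cancel hp.out.one_le, sub_pow_char, one_pow])
  simpa using congrArg (aeval A) h

theorem nil_of_comm {N : End K V} (hN : IsNilpotent N) (hc : Commute Z N)
    (h : ∀ v, ∃ w, (Z ^ m) v = N w) : IsNilpotent Z := by
  obtain ⟨n, hn⟩ := hN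
  have : ∀ j v, ∃ w, ((Z ^ m) ^ j) v = (N ^ j) w := fun j => by
    induction j with
    | zero => exact fun v => ⟨v, rfl⟩
    | succ j ih =>
      intro v
      obtain ⟨w, e⟩ := ih v
      obtain ⟨u, e'⟩ := h w
      exact ⟨u, by rw [pow_succ', End.mul_apply, e, ← End.mul_apply, (hc.pow_pow m j).eq,
        End.mul_apply, e', pow_succ, End.mul_apply]⟩
  exact ⟨m * n, LinearMap.ext fun v => by
    obtain ⟨w, e⟩ := this n v
    rw [pow_mul, e, hn]; rfl⟩

/-- A complete flag `W` of length `d` with a regular nilpotent operator `σ`. -/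
structure Flag (d : ℕ) (W : ℕ → Submodule K V) (σ : End K V) (v₀ : V) : Prop where
  anti : Antitone W
  top : W 0 = ⊤
  bot : W d = ⊥
  sig : σ ∈ Fl W 1
  step : ∀ t, ∀ v ∈ W t, ∃ c : K, v - c • (σ ^ t) v₀ ∈ W (t + 1)
  reg : ∀ t < d, (σ ^ t) v₀ ∉ W (t + 1)

/-- `Z` has leading term `c σ ^ k`. -/
def Ld (W : ℕ → Submodule K V) (σ Z : End K V) (c : K) (k : ℕ) : Prop :=
  Z - c • σ ^ k ∈ Fl W (k + 1)

namespace Flag

variable (f : Flag d W σ v₀)
include f

theorem mem0 (v : V) : v ∈ W 0 := f.top ▸ Submodule.mem_top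

theorem eq0 (hv : v ∈ W t) (h : d ≤ t) : v = 0 := (Submodule.mem_bot K).1 (f.bot ▸ f.anti h hv)

theorem pw (m : ℕ) : σ ^ m ∈ Fl W m := by simpa using fl_pow f.sig m

theorem pv (m : ℕ) : (σ ^ m) v₀ ∈ W m := by simpa using f.pw m 0 _ (f.mem0 _)

theorem fl_eq0 (h : Z ∈ Fl W a) (e : d ≤ a) : Z = 0 :=
  LinearMap.ext fun v => f.eq0 (h 0 v (f.mem0 v)) (by omega)

theorem nil (h : Z ∈ Fl W 1) : IsNilpotent Z := ⟨d, f.fl_eq0 (fl_pow h d) (by omega)⟩

theorem coef (ht : t < d) (h : c • (σ ^ t) v₀ ∈ W (t + 1)) : c = 0 := by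
  by_contra hc
  exact f.reg t ht (by simpa [hc] using Submodule.smul_mem _ c⁻¹ h)

theorem ind {X : Submodule K V} (h : ∀ j, t ≤ j → W (j + 1) ≤ X → (σ ^ j) v₀ ∈ X) : W t ≤ X := by
  suffices H : ∀ m j, t ≤ j → d ≤ j + m → W j ≤ X from H d t le_rfl (by omega)
  intro m
  induction m with
  | zero => exact fun j _ hj v hv => f.eq0 hv hj ▸ zero_mem _
  | succ m ih =>
    intro j hj hd v hv
    obtain ⟨c, hc⟩ := f.step j v hv
    have := ih (j + 1) (by omega) (by omega)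
    simpa using add_mem (this hc) (X.smul_mem c (h j hj this))

theorem fl_of (h : ∀ j, Z ((σ ^ j) v₀) ∈ W (j + a)) : Z ∈ Fl W a := fun t =>
  f.ind (X := (W (t + a)).comap Z) fun j hj _ => f.anti (by omega) (h j)

theorem fl_of_comm (hc : Commute Z σ) (h : Z v₀ ∈ W a) : Z ∈ Fl W a := f.fl_of fun j => by
  rw [← End.mul_apply, (hc.pow_right j).eq, add_comm]; exact f.pw j _ _ h

theorem cyc (v : V) : ∃ g : K[X], aeval σ g v₀ = v :=
  f.ind (t := 0) (X := LinearMap.range ((LinearMap.applyₗ v₀).comp (aeval σ).toLinearMap))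
    (fun j _ _ => ⟨X ^ j, by simp⟩) (f.mem0 v)

theorem lead (hc : Commute Z σ) (h0 : Z ≠ 0) : ∃ k < d, ∃ c ≠ 0, Ld W σ Z c k := by
  have h1 : ∃ k, Z v₀ ∉ W (k + 1) := ⟨d, fun H => h0 (f.fl_eq0 (f.fl_of_comm hc H) (by omega))⟩
  classical
  have h2 := Nat.find_spec h1
  have h3 : Z v₀ ∈ W (Nat.find h1) := by
    rcases h : Nat.find h1 with _ | k
    · exact f.mem0 _
    · exact not_not.1 (Nat.find_min h1 (by omega))
  generalize Nat.find h1 = k at h2 h3
  obtain ⟨c, hc'⟩ := f.step _ _ h3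
  refine ⟨_, lt_of_not_ge fun H => h2 (by rw [f.eq0 h3 H]; exact zero_mem _), c, ?_,
    f.fl_of_comm (hc.sub_left (((Commute.refl σ).pow_left _).smul_left c)) hc'⟩
  rintro rfl
  exact h2 (by simpa using hc')

theorem ld_fl (h : Ld W σ Z c k) : Z ∈ Fl W k := by
  simpa using add_mem (fl_mono f.anti h k.le_succ) (Submodule.smul_mem _ c (f.pw k))

theorem ld_mul (h : Ld W σ Z c a) (h' : Ld W σ Z' c' b) : Ld W σ (Z * Z') (c * c') (a + b) := by
  have := add_mem (fl_mul (n := a + b + 1) h (f.ld_fl h') (by omega))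
    (Submodule.smul_mem _ c (fl_mul (f.pw a) h' rfl))
  unfold Ld
  convert this using 1
  simp only [sub_mul, mul_sub, smul_sub, smul_mul_assoc, mul_smul_comm, smul_smul, pow_add]
  abel

theorem ld_pow (h : Ld W σ Z c 1) (m : ℕ) : Ld W σ (Z ^ m) (c ^ m) m := by
  induction m with
  | zero => simp [Ld]
  | succ m ih => rw [pow_succ, pow_succ]; exact f.ld_mul ih h

theorem ld_ap (h : Ld W σ Z c k) (t : ℕ) :
    Z ((σ ^ t) v₀) - c • (σ ^ (t + k)) v₀ ∈ W (t + k + 1) := by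
  rw [add_comm t k, pow_add, add_comm k t]
  simpa [add_assoc] using h t _ (f.pv t)

theorem ld_unique (h : Ld W σ Z c k) (h' : Ld W σ Z c' k) (hk : k < d) : c = c' :=
  sub_eq_zero.1 (f.coef hk (by simpa [sub_smul] using sub_mem (f.ld_ap h' 0) (f.ld_ap h 0)))

theorem ld_inj (h : Ld W σ Z c k) (hc : c ≠ 0) (ht : t + k ≤ d) (hv : Z v ∈ W (t + k)) :
    v ∈ W t := by
  induction t with
  | zero => exact f.mem0 v
  | succ t ih =>
    obtain ⟨a, ha⟩ := f.step t v (ih (by omega) (f.anti (by omega) hv))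
    have h1 := f.ld_fl h _ _ ha
    have h2 := sub_mem (sub_mem hv h1)
      (Submodule.smul_mem _ a (show _ ∈ W (t + 1 + k) from add_right_comm t k 1 ▸ f.ld_ap h t))
    have h3 : a * c = 0 := f.coef (t := t + k) (by omega) (by
      simpa [smul_sub, smul_smul, add_right_comm t 1 k] using h2)
    simpa [(mul_eq_zero.1 h3).resolve_right hc] using ha

theorem ld_surj (h : Ld W σ Z c k) (hc : c ≠ 0) : W k = LinearMap.range Z := by
  refine le_antisymm (f.ind fun j hj hX => ?_) ?_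
  · obtain ⟨t, rfl⟩ := Nat.exists_eq_add_of_le' hj
    have := Submodule.smul_mem _ c⁻¹ 
      (sub_mem (LinearMap.mem_range_self Z ((σ ^ t) v₀)) (hX (f.ld_ap h t)))
    simpa [hc] using this
  · rintro _ ⟨v, rfl⟩
    simpa using f.ld_fl h 0 v (f.mem0 v)

theorem ld_ker (h : Ld W σ Z c 1) (hc : c ≠ 0) (ht : t ≤ d) : v ∈ W t ↔ (Z ^ (d - t)) v = 0 :=
  ⟨fun hv => f.eq0 (f.ld_fl (f.ld_pow h _) t v hv) (by omega), fun H =>
    f.ld_inj (f.ld_pow h (d - t)) (pow_ne_zero _ hc) (by omega) (H ▸ zero_mem _)⟩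

theorem exists_phi (hd : 0 < d) : ∃ φ : V →ₗ[K] K, φ v₀ = 1 ∧ ∀ v, φ v = 0 ↔ v ∈ W 1 := by
  obtain ⟨ψ, h1, h2⟩ := Submodule.exists_le_ker_of_notMem (f.reg 0 hd)
  have h1 : ψ v₀ ≠ 0 := h1
  refine ⟨(ψ v₀)⁻¹ • ψ, by simp [h1], fun v => ⟨fun H => ?_, fun H => by simp [show ψ v = 0 from h2 H]⟩⟩
  obtain ⟨c, hc⟩ := f.step 0 v (f.mem0 v)
  have h3 : ψ v = 0 := by simpa [h1] using H
  have h4 : c = 0 := by simpa [h1, h3] using h2 hc
  simpa [h4] using hc

end Flag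

end CfsgLib.Fus4
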