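import Mathlib
import Cfsg.Agent.Lib.Fus4.Flag
import Cfsg.Agent.Lib.Fusion.SylIn

/-!
Transfer of an invariant bilinear map from a Sylow subgroup to the whole group, with control of
the leading term.
-/

set_option autoImplicit false

namespace CfsgLib.Fus4

open Module Subgroup CfsgLib.Fusion

theorem sum_mem_of_free {S H X I A : Type*} [Group H] [MulAction H X] [Fintype I]
    [Nonempty I] [AddCommMonoid A] [SetLike S A] [AddSubmonoidClass S A] (B : S) (e : I → H)
    (hcl : ∀ i j, ∃ l, e l = (e i)⁻¹ * e j) (F : X → A) (T : Finset X)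
    (hT : ∀ t ∈ T, ∀ i, e i • t ∈ T) (hf : ∀ t ∈ T, Function.Injective fun i => e i • t)
    (hF : ∀ t ∈ T, ∑ i, F (e i • t) ∈ B) : ∑ t ∈ T, F t ∈ B := by
  classical
  induction T using Finset.strongInduction with
  | H T ih =>
  rcases T.eq_empty_or_nonempty with rfl | ⟨t, ht⟩
  · simp
  have hO : (Finset.univ.image fun i => e i • t) ⊆ T := fun x hx => by
    obtain ⟨i, -, rfl⟩ := Finset.mem_image.1 hx
    exact hT t ht i
  obtain ⟨i⟩ := ‹Nonempty I›
  obtain ⟨l, hl⟩ := hcl i i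
  rw [← Finset.sum_sdiff hO, Finset.sum_image fun i _ j _ h => hf t ht h]
  refine add_mem (ih _ (Finset.sdiff_ssubset hO ⟨_, Finset.mem_image_of_mem _ (Finset.mem_univ i)⟩)
    (fun x hx i => ?_) (fun x hx => hf x (Finset.mem_sdiff.1 hx).1)
    fun x hx => hF x (Finset.mem_sdiff.1 hx).1) (hF t ht)
  rw [Finset.mem_sdiff] at hx ⊢
  refine ⟨hT x hx.1 i, fun H => hx.2 ?_⟩
  obtain ⟨j, -, hj⟩ := Finset.mem_image.1 H
  obtain ⟨l, hl⟩ := hcl i j
  exact Finset.mem_image.2 ⟨l, Finset.mem_univ _, by rw [hl, mul_smul, hj, inv_smul_smul]⟩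

section

variable {K V : Type*} [Field K] [AddCommGroup V] [Module K V] {W : ℕ → Submodule K V}

/-- The action on bilinear maps `V × V → V`. -/
def actB : (End K V)ˣ →* End K (V →ₗ[K] End K V) where
  toFun g :=
    { toFun := fun β =>
        { toFun := fun u => g * β ((↑g⁻¹ : End K V) u) * ↑g⁻¹
          map_add' := fun u v => by simp [mul_add, add_mul]
          map_smul' := fun c u => by simp }
      map_add' := fun β γ => LinearMap.ext fun u => by simp [mul_add, add_mul]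
      map_smul' := fun c β => LinearMap.ext fun u => by simp }
  map_one' := LinearMap.ext fun β => LinearMap.ext fun u => by simp
  map_mul' g h := LinearMap.ext fun β => LinearMap.ext fun u => by simp [mul_assoc]

theorem actB_apply (g : (End K V)ˣ) (β : V →ₗ[K] End K V) (u : V) :
    actB g β u = g * β ((↑g⁻¹ : End K V) u) * ↑g⁻¹ := rfl

/-- The filtration of the bilinear maps. -/
def BF (W : ℕ → Submodule K V) (c n : ℕ) : Submodule K (V →ₗ[K] End K V) where
  carrier := {β | ∀ a b, ∀ u ∈ W a, ∀ v ∈ W b, β u v ∈ W (a + b + n - c)}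
  add_mem' := fun h h' a b u hu v hv => add_mem (h a b u hu v hv) (h' a b u hu v hv)
  zero_mem' := fun _ _ _ _ _ _ => zero_mem _
  smul_mem' := fun r _ h a b u hu v hv => Submodule.smul_mem _ r (h a b u hu v hv)

theorem actB_fl (hW : Antitone W) {x : (End K V)ˣ} {w : ℕ} (h : (x : End K V) - 1 ∈ Fl W w)
    (h' : (↑x⁻¹ : End K V) - 1 ∈ Fl W w) (c : ℕ) : actB x - 1 ∈ Fl (BF W c) w := by
  intro n β hβ a b u hu v hv
  have h0 := fl_zero_of hW h'
  have h1 := add_mem (add_mem (hW (show a + b + (n + w) - c ≤ _ by omega)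
    (h _ _ (hβ _ _ _ (h0 a u hu) _ (h0 b v hv))))
    (hW (by omega) (hβ _ _ _ (h' a u hu) _ (h0 b v hv)))) (hW (by omega) (hβ _ _ _ hu _ (h' b v hv)))
  simpa [actB_apply] using h1

theorem fl_min (hW : Antitone W) {Z : End K V} {w : ℕ} (h : Z ∈ Fl W w) (D : ℕ) :
    Z ∈ Fl (fun t => W (min t D)) w := fun t v hv => hW (by omega) (h _ v hv)

end

variable {p : ℕ} [hp : Fact p.Prime] {V : Type*} [AddCommGroup V] [Module (ZMod p) V]
  {W : ℕ → Submodule (ZMod p) V} {σ : End (ZMod p) V} {d : ℕ} {v₀ : V}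

theorem norm_fl (hW : Antitone W) {x : (End (ZMod p) V)ˣ} {w : ℕ} (h : (x : End (ZMod p) V) - 1 ∈ Fl W w)
    (h' : ∀ t, ∀ v ∈ W t, (↑x⁻¹ : End (ZMod p) V) v ∈ W t) (D c : ℕ) :
    ∑ i : Fin p, actB (x ^ (i : ℕ)) ∈ Fl (BF (fun t => W (min t D)) c) (w * (p - 1)) := by
  simp only [map_pow]
  rw [Fin.sum_univ_eq_sum_range (fun i => actB x ^ i)]
  refine (geom_sum_char (p := p) (actB x)).symm ▸ ?_
  exact fl_pow (actB_fl (fun _ _ e => hW (min_le_min_right D e)) (fl_min hW h D)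
    (fl_min hW (fl_inv hW h' h) D) c) _

theorem theta (f : Flag d W σ v₀) {H P : Subgroup (End (ZMod p) V)ˣ} [Finite H] (hP : SylIn p P H)
    {D m ν : ℕ} (hD : 1 ≤ D) (hW : H ≤ st (W D) (W D)) {φ : V →ₗ[ZMod p] ZMod p} (hφ : φ v₀ = 1)
    (hφ' : ∀ v, φ v = 0 ↔ v ∈ W 1)
    (hx : ∀ x ∈ P, Commute (x : End (ZMod p) V) σ ∧ (x : End (ZMod p) V) - 1 ∈ Fl W 1)
    (hN : ∀ τ ∈ H, τ ∈ normalizer (P : Set (End (ZMod p) V)ˣ) → τ ∈ st (W 1) (W 1) ∧
      Ld W σ (τ * σ ^ m * ↑τ⁻¹) (φ ((τ : End (ZMod p) V) v₀)) m)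
    {I : Type} [Fintype I] [Nonempty I] (e : I → (End (ZMod p) V)ˣ) (he : ∀ i, e i ∈ P)
    (hI : (Fintype.card I : ZMod p) = 0) (hcl : ∀ i j, ∃ l, e l = (e i)⁻¹ * e j)
    (hf : ∀ g ∈ H, g ∉ normalizer (P : Set (End (ZMod p) V)ˣ) → ∀ i j,
      g⁻¹ * ((e i)⁻¹ * e j) * g ∈ P → i = j)
    (hν : ∑ i, actB (e i) ∈ Fl (BF (fun t => W (min t D)) (2 * (D - 1))) ν) :
    ∃ (Θ : V →ₗ[ZMod p] End (ZMod p) V) (A : End (ZMod p) V) (c : ZMod p), c ≠ 0 ∧ Ld W σ A c m ∧
      (∀ g ∈ H, ∀ u, Θ ((g : End (ZMod p) V) u) = g * Θ u * ↑g⁻¹) ∧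
      ∀ a b, ∀ u ∈ W a, ∀ v ∈ W b, Θ u v - φ u • A v ∈ W (min (a + b + ν - 2 * (D - 1)) D) := by
  classical
  have := Fintype.ofFinite (H ⧸ P.subgroupOf H)
  have mul : ∀ τ ∈ st (W 1) (W 1), ∀ u, φ ((τ : End (ZMod p) V) u) = φ u * φ ((τ : End (ZMod p) V) v₀) :=
    fun τ hτ u => by
      have := (hφ' _).2 ((hτ.1 _).2 ((hφ' (u - φ u • v₀)).1 (by simp [hφ])))
      simpa [sub_eq_zero] using this
  let β : V →ₗ[ZMod p] End (ZMod p) V := φ.smulRight (σ ^ m)
  have hβ : ∀ g u, actB g β u = φ ((↑g⁻¹ : End (ZMod p) V) u) • (g * σ ^ m * ↑g⁻¹) := fun g u => by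
    simp [actB_apply, β]
  have inv : ∀ x ∈ P, actB x β = β := fun x h => LinearMap.ext fun u => by
    have h1 := (hφ' _).2 ((hx _ (inv_mem h)).2 0 u (f.mem0 u))
    rw [LinearMap.sub_apply, map_sub, sub_eq_zero] at h1
    rw [hβ, h1, ((hx x h).1.pow_right m).eq, Units.mul_inv_cancel_right]; rfl
  let F : H ⧸ P.subgroupOf H → V →ₗ[ZMod p] End (ZMod p) V := fun q => actB (q.out : H).1 β
  have kF : ∀ g : H, F g = actB g.1 β := fun g => by
    obtain ⟨x, hx⟩ := QuotientGroup.mk_out_eq_mul (P.subgroupOf H) g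
    simp only [F, hx, coe_mul, map_mul, End.mul_apply]
    rw [inv x.1.1 x.2]
  have sF : ∀ (g : H) q, F (g • q) = actB g.1 (F q) := fun g q => by
    obtain ⟨a, rfl⟩ := QuotientGroup.mk_surjective q
    rw [MulAction.Quotient.smul_mk, kF, kF, smul_eq_mul, coe_mul, map_mul, End.mul_apply]
  let N : H ⧸ P.subgroupOf H → Prop := fun q =>
    (q.out : H).1 ∈ normalizer (P : Set (End (ZMod p) V)ˣ)
  have kN : ∀ g : H, N g ↔ g.1 ∈ normalizer (P : Set (End (ZMod p) V)ˣ) := fun g => by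
    obtain ⟨x, hx⟩ := QuotientGroup.mk_out_eq_mul (P.subgroupOf H) g
    simp only [N, hx, coe_mul]
    exact mul_mem_cancel_right (le_normalizer x.2)
  let e' : I → H := fun i => ⟨e i, hP.le (he i)⟩
  have k0 : ∀ i j, ∃ l, e' l = (e' i)⁻¹ * e' j := fun i j => (hcl i j).imp fun l hl => Subtype.ext hl
  have k1 : ∀ q ∈ Finset.univ.filter fun q => ¬ N q, ∀ i,
      e' i • q ∈ Finset.univ.filter fun q => ¬ N q := fun q hq i => by
    obtain ⟨a, rfl⟩ := QuotientGroup.mk_surjective q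
    rw [Finset.mem_filter_univ, kN] at hq
    rw [Finset.mem_filter_univ, MulAction.Quotient.smul_mk, kN]
    exact fun H => hq ((mul_mem_cancel_left (le_normalizer (he i))).1 H)
  have k2 : ∀ q ∈ Finset.univ.filter fun q => ¬ N q, Function.Injective fun i => e' i • q :=
    fun q hq i j h => by
      obtain ⟨a, rfl⟩ := QuotientGroup.mk_surjective q
      rw [Finset.mem_filter_univ, kN] at hq
      simp only [MulAction.Quotient.smul_mk, QuotientGroup.eq, mem_subgroupOf] at h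
      exact hf a a.2 hq i j (by simpa [e', mul_assoc] using h)
  have hNq := fun q (hq : q ∈ Finset.univ.filter N) =>
    hN _ (q.out : H).2 (Finset.mem_filter.1 hq).2
  refine ⟨∑ q, F q, ∑ q ∈ Finset.univ.filter N, φ ((↑(q.out : H).1⁻¹ : End (ZMod p) V) v₀) •
    ((q.out : H).1 * σ ^ m * ↑(q.out : H).1⁻¹), ∑ q ∈ Finset.univ.filter N, 1, fun h0 => ?_, ?_,
    fun g hg u => ?_, fun a b u hu v hv => ?_⟩
  · have h1 := sum_mem_of_free (⊥ : AddSubmonoid (ZMod p)) e' k0 (fun _ => (1 : ZMod p)) _ k1 k2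
      fun q _ => by simp [hI]
    have h2 := Finset.sum_filter_add_sum_filter_not Finset.univ N fun _ => (1 : ZMod p)
    rw [h0, AddSubmonoid.mem_bot.1 h1, add_zero, Finset.sum_const, nsmul_one, eq_comm,
      ZMod.natCast_eq_zero_iff, Finset.card_univ, Fintype.card_eq_nat_card] at h2
    exact hP.not_dvd_relIndex h2
  · rw [Ld, Finset.sum_smul, ← Finset.sum_sub_distrib]
    refine sum_mem fun q hq => ?_
    have h1 := mul _ (inv_mem (hNq q hq).1) (((q.out : H).1 : End (ZMod p) V) v₀)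
    rw [inv_ap, hφ, mul_comm] at h1
    rw [h1, ← smul_smul, ← smul_sub]
    exact Submodule.smul_mem _ _ (hNq q hq).2
  · have h1 : actB g (∑ q, F q) = ∑ q, F q := by
      rw [map_sum, ← Equiv.sum_comp (MulAction.toPerm (⟨g, hg⟩ : H)) F]
      exact Finset.sum_congr rfl fun q _ => (sF ⟨g, hg⟩ q).symm
    conv_lhs => rw [← h1, actB_apply, inv_ap]
  · have h1 := sum_mem_of_free (BF (fun t => W (min t D)) (2 * (D - 1)) ν) e' k0 F _ k1 k2 fun q _ => by
      simp only [sF, ← LinearMap.sum_apply]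
      rw [← zero_add ν]
      refine hν 0 _ fun a b u hu v hv => ?_
      have hq := hW (q.out : H).2
      beta_reduce at hu hv ⊢
      rw [hβ]
      by_cases ha : D ≤ a
      · rw [min_eq_right ha] at hu
        rw [(hφ' _).2 (f.anti hD (((inv_mem hq).1 u).2 hu)), zero_smul]
        exact zero_mem _
      by_cases hb : D ≤ b
      · rw [min_eq_right hb] at hv
        exact Submodule.smul_mem _ _ (f.anti (by omega) ((hq.1 _).2
          (f.anti (by omega) (f.pw m _ _ (((inv_mem hq).1 v).2 hv)))))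
      · rw [show min (a + b + 0 - 2 * (D - 1)) D = 0 by omega]
        exact f.mem0 _
    have h2 := h1 a b u (f.anti (min_le_left _ _) hu) v (f.anti (min_le_left _ _) hv)
    rw [← Finset.sum_filter_add_sum_filter_not Finset.univ N, LinearMap.add_apply,
      LinearMap.add_apply, add_sub_right_comm]
    refine add_mem (by
      rw [LinearMap.sum_apply, ← LinearMap.smul_apply, Finset.smul_sum, Finset.sum_congr rfl, sub_self]
      · exact zero_mem _
      · intro q hq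
        rw [hβ, mul _ (inv_mem (hNq q hq).1), smul_smul]) h2

end CfsgLib.Fus4
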