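import Mathlib
import Cfsg.Agent.Lib.Fus4.Theta
import Cfsg.Agent.Lib.Fus2.Base
import Cfsg.Agent.Lib.QuadPair.Inv

/-!
A quadratic element of a group with a strongly `p`-embedded subgroup lies in a subgroup `SL₂(p)`
whose central involution inverts its commutator space.
-/

set_option autoImplicit false

namespace CfsgLib.Fus4

open Polynomial Subgroup CfsgLib.Dickson CfsgLib.QuadPair
open scoped MatrixGroups

variable {R G : Type*} [Ring R] [Group G] {ρ : G →* R} {A B : R} {p : ℕ} [hp : Fact p.Prime]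
  {x y : G}

theorem exists_sl2 (hR : (p : R) = 0) (hA : A * A = 0) (hB : B * B = 0) (hx : ρ x = 1 + A)
    (hy : ρ y = 1 + B) (hz : ¬ IsNilpotent (A * B + B * A)) :
    ∃ (K : Type) (_ : Field K) (c : K) (π : closure ({x, y} : Set G) →* SL(2, K)), CharP K p ∧
      c ≠ 0 ∧ π ⟨x, subset_closure (by simp)⟩ = SL2.uu c ∧
        π ⟨y, subset_closure (by simp)⟩ = SL2.ll 1 := by
  have hx' := inv_of_sq hA hx
  have hy' := inv_of_sq hB hy
  let I : Ideal ℤ[X] := RingHom.ker (aeval (A * B + B * A) : ℤ[X] →ₐ[ℤ] R)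
  obtain ⟨P, ⟨hIP, hP⟩, hXP⟩ : ∃ P : Ideal ℤ[X], (I ≤ P ∧ P.IsPrime) ∧ X ∉ P := by
    by_contra h
    push Not at h
    have : X ∈ I.radical := by
      rw [Ideal.radical_eq_sInf]; exact Ideal.mem_sInf.2 fun {P} hP => h P hP
    obtain ⟨n, hn⟩ := this
    exact hz ⟨n, by simpa [I, RingHom.mem_ker] using hn⟩
  let K := FractionRing (ℤ[X] ⧸ P)
  let φ : ℤ[X] →+* K := (algebraMap (ℤ[X] ⧸ P) K).comp (Ideal.Quotient.mk P)
  have hφ : ∀ q, φ q = 0 ↔ q ∈ P := fun q => by
    simp [φ, Ideal.Quotient.eq_zero_iff_mem]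
  have hX : φ X ≠ 0 := fun h => hXP ((hφ _).1 h)
  have hI : ∀ q (n : ℕ), aeval (A * B + B * A) (q * X ^ n) = 0 → φ q = 0 := fun q n h => by
    have := (hφ _).2 (hIP h)
    simpa [hX] using this
  have hK : CharP K p := (CharP.charP_iff_prime_eq_zero hp.out).2 (by
    simpa using hI p 0 (by simpa using hR))
  let Γ : Subgroup (G × SL(2, K)) := closure {(x, SL2.uu (φ X)), (y, SL2.ll 1)}
  have key : ∀ g ∈ Γ, g.1 ∈ closure {x, y} ∧ ∃ p₀ p₁ p₂ p₃, NF ρ A B g.1 p₀ p₁ p₂ p₃ ∧
      g.2 0 0 = φ (1 + X * p₀ + X * p₃) ∧ g.2 0 1 = φ (X * p₁) ∧ g.2 1 0 = φ p₂ ∧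
        g.2 1 1 = φ (1 + X * p₀) := by
    intro g hg
    have mx : x ∈ closure {x, y} := subset_closure (by simp)
    have my : y ∈ closure {x, y} := subset_closure (by simp)
    induction hg using closure_induction_left with
    | one => exact ⟨one_mem _, _, _, _, _, nf_one, by simp, by simp, by simp, by simp⟩
    | mul_left a ha g _ ih =>
      obtain ⟨h0, p₀, p₁, p₂, p₃, h, h1, h2, h3, h4⟩ := ih
      rcases ha with rfl | rfl
      · refine ⟨mul_mem mx h0, _, _, _, _, h.left hA 1 (by simpa) (by simpa), ?_, ?_, ?_, ?_⟩ <;>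
          simp [SL2.mul_ap, h1, h2, h3, h4] <;> ring
      · refine ⟨mul_mem my h0, _, _, _, _, h.right hB 1 (by simpa) (by simpa), ?_, ?_, ?_, ?_⟩ <;>
          simp [SL2.mul_ap, h1, h2, h3, h4] <;> ring
    | inv_mul_cancel a ha g _ ih =>
      obtain ⟨h0, p₀, p₁, p₂, p₃, h, h1, h2, h3, h4⟩ := ih
      rcases ha with rfl | rfl
      · refine ⟨mul_mem (inv_mem mx) h0, _, _, _, _,
          h.left hA (-1) (by simpa [sub_eq_add_neg] using hx') (by simpa), ?_, ?_, ?_, ?_⟩ <;>
          simp [← SL2.uu_neg, SL2.mul_ap, h1, h2, h3, h4] <;> ring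
      · refine ⟨mul_mem (inv_mem my) h0, _, _, _, _,
          h.right hB (-1) (by simpa [sub_eq_add_neg] using hy') (by simpa), ?_, ?_, ?_, ?_⟩ <;>
          simp [SL2.inv_00, SL2.inv_01, SL2.inv_10, SL2.inv_11, SL2.mul_ap, h1, h2, h3, h4] <;> ring
  let f : Γ →* (closure {x, y} : Subgroup G) :=
    ((MonoidHom.fst _ _).comp Γ.subtype).codRestrict _ fun g => (key g.1 g.2).1
  have mx : (x, SL2.uu (φ X)) ∈ Γ := subset_closure (Or.inl rfl)
  have my : (y, SL2.ll 1) ∈ Γ := subset_closure (Or.inr rfl)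
  have hf : Function.Bijective f := by
    refine ⟨(injective_iff_map_eq_one f).2 ?_, fun ⟨g, hg⟩ => ?_⟩
    · rintro ⟨⟨g, s⟩, hg⟩ h
      obtain rfl : g = 1 := congrArg Subtype.val h
      obtain ⟨-, p₀, p₁, p₂, p₃, h0, h1, h2, h3, h4⟩ := key _ hg
      obtain ⟨k0, k1, k2, k3⟩ := h0.coeff hA hB
      have k0 := hI _ _ k0
      have k3 := hI _ _ k3
      rw [map_add, k0, zero_add] at k3
      refine Subtype.ext (Prod.ext rfl (SL2.ext2 ?_ ?_ ?_ ?_))
      · simpa [k0, k3] using h1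
      · simpa [hI _ _ k1] using h2
      · simpa [hI _ _ k2] using h3
      · simpa [k0] using h4
    · obtain ⟨a, ha, rfl⟩ : g ∈ Γ.map (MonoidHom.fst _ _) := (closure_le _).2 (by
        rintro _ (rfl | rfl)
        exacts [⟨_, mx, rfl⟩, ⟨_, my, rfl⟩]) hg
      exact ⟨⟨a, ha⟩, rfl⟩
  have e : ∀ a : Γ, (MulEquiv.ofBijective f hf).symm (f a) = a := (MulEquiv.ofBijective f hf).left_inv
  exact ⟨K, inferInstance, φ X, ((MonoidHom.snd _ _).comp Γ.subtype).comp
    (MulEquiv.ofBijective f hf).symm.toMonoidHom, hK, hX, congrArg (fun a : Γ => a.1.2) (e ⟨_, mx⟩),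
    congrArg (fun a : Γ => a.1.2) (e ⟨_, my⟩)⟩

theorem braid_nil (hA : A * A = 0) (hB : B * B = 0) {δ : R} (cA : Commute δ A) (cB : Commute δ B)
    (e : (1 + δ) * ((1 + B) * (1 + A) * (1 + B)) = (1 + A) * (1 + B) * (1 + A)) :
    δ ^ 3 * ((1 + B) * (1 + A) * (1 + B)) ^ 2 = 0 := by
  have hA' : ∀ x, A * (A * x) = 0 := fun x => by rw [← mul_assoc, hA, zero_mul]
  have hB' : ∀ x, B * (B * x) = 0 := fun x => by rw [← mul_assoc, hB, zero_mul]
  have cw : Commute δ ((1 + B) * (1 + A) * (1 + B)) :=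
    (((Commute.one_right δ).add_right cB).mul_right ((Commute.one_right δ).add_right cA)).mul_right
      ((Commute.one_right δ).add_right cB)
  have e1 : δ * ((1 + B) * (1 + A) * (1 + B)) = A + A * (B * A) - B - B * (A * B) := by
    rw [add_mul 1 δ, one_mul, ← eq_sub_iff_add_eq'] at e
    rw [e]
    simp only [mul_add, add_mul, one_mul, mul_one, mul_assoc, hA, hB]
    abel
  have e2 : δ * (A * B + A * (B * (A * B))) = 0 := by
    have := congrArg (fun z => A * z * B) e1
    simp only [← mul_assoc A δ, ← cA.eq] at this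
    simpa [mul_add, add_mul, mul_sub, sub_mul, mul_assoc, hA, hB, hA', hB'] using this
  have e3 : δ * (B * A + B * (A * (B * A))) = 0 := by
    have := congrArg (fun z => B * z * A) e1
    simp only [← mul_assoc B δ, ← cB.eq] at this
    simpa [mul_add, add_mul, mul_sub, sub_mul, mul_assoc, hA, hB, hA', hB'] using this
  have e4 : (A + A * (B * A) - B - B * (A * B)) ^ 2 = -((A * B + A * (B * (A * B))) * (1 + A * B) +
      (B * A + B * (A * (B * A))) * (1 + B * A)) := by
    simp only [sq, mul_add, add_mul, mul_sub, sub_mul, mul_assoc, hA, hB, hA', hB', mul_zero, mul_one]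
    abel
  rw [pow_succ', mul_assoc, ← cw.mul_pow, e1, e4, mul_neg, mul_add, ← mul_assoc δ, ← mul_assoc δ, e2, e3]
  simp

theorem braid_pow (hA : A * A = 0) (hB : B * B = 0)
    (e : (1 + B) * (1 + A) * (1 + B) = (1 + A) * (1 + B) * (1 + A)) :
    ((1 + A) * (1 + B) * (1 + A)) ^ 2 = 1 + 2 * (A * B + B * A) + 6 * (A + A * B * A) ∧
      ((1 + A) * (1 + B) * (1 + A)) ^ 4 = 1 + 12 * (A + A * B * A) := by
  have hA' : ∀ x, A * (A * x) = 0 := fun x => by rw [← mul_assoc, hA, zero_mul]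
  have hB' : ∀ x, B * (B * x) = 0 := fun x => by rw [← mul_assoc, hB, zero_mul]
  have e1 : B * (A * B) = A + A * (B * A) - B := by
    rw [← sub_eq_zero] at e ⊢
    rw [← e]
    simp only [mul_add, add_mul, one_mul, mul_one, mul_assoc, hA, hB]
    abel
  have e2 : B * (A * (B * A)) = -(B * A) := by
    have := congrArg (· * A) e1
    simpa [sub_mul, add_mul, mul_assoc, hA] using this
  have e3 : ((1 + A) * (1 + B) * (1 + A)) ^ 2 = 1 + 2 * (A * B + B * A) + 6 * (A + A * B * A) := by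
    simp only [sq, mul_add, add_mul, mul_sub, one_mul, mul_one, mul_assoc, hA, hB, hA', hB', e1, e2,
      mul_zero, mul_neg]
    noncomm_ring
  refine ⟨e3, ?_⟩
  rw [show 4 = 2 * 2 from rfl, pow_mul, e3]
  simp only [show (2 : R) = (2 : ℕ) by simp, show (6 : R) = (6 : ℕ) by simp,
    show (12 : R) = (12 : ℕ) by simp, ← nsmul_eq_mul, sq, mul_add, add_mul, mul_sub, one_mul, mul_one,
    mul_assoc, hA, hA', hB', e1, e2, mul_zero, mul_neg, smul_add, mul_smul_comm, smul_mul_assoc]
  abel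

theorem pg_of_nil (hρ : Function.Injective ρ) (hR : (p : R) = 0) (h : IsNilpotent (ρ x - 1)) :
    IsPGroup p (zpowers x) :=
  (exists_pow_of_nil hR h).elim fun _ e => pg_of_pow (hρ (by rw [map_pow, e, map_one]))

variable [Algebra (ZMod p) R]

theorem cast_p' : ((p : ℕ) : R) = 0 := by
  rw [← map_natCast (algebraMap (ZMod p) R), ZMod.natCast_self, map_zero]

theorem pow_quad (hA : A * A = 0) (hy : ρ y = 1 + A) (n : ℕ) : ρ (y ^ n) = 1 + (n : ZMod p) • A := by
  induction n with
  | zero => simp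
  | succ n ih => rw [pow_succ, map_mul, ih, hy]; simp [add_mul, mul_add, hA, add_smul, add_assoc]

theorem pow_p_quad (hρ : Function.Injective ρ) (hA : A * A = 0) (hy : ρ y = 1 + A) : y ^ p = 1 :=
  hρ (by rw [pow_quad (p := p) hA hy]; simp)

variable [Finite G] {M : Subgroup G}

/-- A quadratic element centralizes a normal `p'`-subgroup. -/
theorem comm_of_quad (hρ : Function.Injective ρ) (h5 : 5 ≤ p) (hA : A * A = 0) (hy : ρ y = 1 + A)
    {N : Subgroup G} [hN : N.Normal] (h : ¬ p ∣ Nat.card N) (hx : x ∈ N) : x * y * x⁻¹ = y := by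
  classical
  have := Fintype.ofFinite G
  have yp := pow_p_quad (p := p) hρ hA hy
  have e0 : ∀ a b : ZMod p, y ^ (a + b).val = y ^ a.val * y ^ b.val := fun a b => by
    rw [ZMod.val_add, ← pow_eq_pow_mod _ yp, pow_add]
  have yC : ∀ n : ℕ, y ^ n ∈ centralizer {y} := fun n =>
    pow_mem (mem_centralizer_singleton_iff.2 rfl) n
  let F : G → R := fun k => ρ (k * y * k⁻¹)
  have h1 := sum_mem_of_free (⊥ : AddSubmonoid R) (fun a : ZMod p => ConjAct.toConjAct (y ^ a.val))
    (fun i j => ⟨j - i, by rw [eq_inv_mul_iff_mul_eq, ← map_mul, ← e0, add_sub_cancel]⟩) F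
    ((Finset.univ.filter (· ∈ N)).filter fun k => ¬ k ∈ centralizer {y}) (fun k hk a => by
      rw [Finset.mem_filter, Finset.mem_filter_univ] at hk ⊢
      rw [ConjAct.toConjAct_smul, mul_mem_cancel_right (inv_mem (yC _)), mul_mem_cancel_left (yC _)]
      exact ⟨hN.conj_mem _ hk.1 _, hk.2⟩)
    (fun k hk i j H => by
      by_contra hij
      refine (Finset.mem_filter.1 hk).2 (mem_centralizer_singleton_iff.2
        (mem_centralizer_singleton_iff.1 (Fus2.mem_of_zpow_mem (i := (j - i).val)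
          (pg_of_pow (n := 1) (by simpa)) (fun H => ?_) ?_)).symm)
      · rw [Int.natCast_dvd_natCast, ← ZMod.natCast_eq_zero_iff, ZMod.natCast_zmod_val] at H
        exact hij (sub_eq_zero.1 H).symm
      · simp only [ConjAct.toConjAct_smul] at H
        rw [← add_sub_cancel i j, e0] at H
        rw [zpow_natCast, mem_centralizer_singleton_iff, ← mul_inv_eq_iff_eq_mul]
        simpa [mul_assoc] using congrArg (· * y ^ i.val) H.symm)
    (fun k _ => by
      have e : ∀ a : ZMod p, F (ConjAct.toConjAct (y ^ a.val) • k) =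
          a ^ 0 • F k + a ^ 1 • (A * F k - F k * A) - a ^ 2 • (A * F k * A) := fun a => by
        have e1 := pow_quad (p := p) hA hy a.val
        rw [ZMod.natCast_zmod_val] at e1
        have e2 : F (ConjAct.toConjAct (y ^ a.val) • k) = ρ (y ^ a.val) * F k * ρ (y ^ a.val)⁻¹ := by
          simp only [F, ← map_mul, ConjAct.toConjAct_smul]
          congr 1
          group
        rw [e2, inv_of_sq (by simp [hA]) e1, e1]
        simp only [mul_sub, add_mul, smul_sub, smul_add, one_mul, mul_one, pow_zero, one_smul, pow_one, sq,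
          smul_mul_assoc, mul_smul_comm, smul_smul]
        abel
      have z : ∀ i < 3, ∑ a : ZMod p, a ^ i = 0 := fun i hi =>
        FiniteField.sum_pow_lt_card_sub_one _ i (by rw [ZMod.card]; omega)
      simp only [e, Finset.sum_sub_distrib, Finset.sum_add_distrib, ← Finset.sum_smul, z 0 (by omega),
        z 1 (by omega), z 2 (by omega)]
      simp)
  have h2 := Finset.sum_filter_add_sum_filter_not (Finset.univ.filter (· ∈ N)) (· ∈ centralizer {y}) F
  rw [AddSubmonoid.mem_bot.1 h1, add_zero, Finset.sum_congr rfl (g := fun _ => ρ y) fun k hk => by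
    simp only [F, mem_centralizer_singleton_iff.1 (Finset.mem_filter.1 hk).2, mul_inv_cancel_right],
    Finset.sum_const, ← Nat.cast_smul_eq_nsmul (ZMod p)] at h2
  have h3 : ρ x * (∑ k with k ∈ N, F k) * ρ x⁻¹ = ∑ k with k ∈ N, F k := by
    rw [Finset.mul_sum, Finset.sum_mul]
    exact Finset.sum_equiv (Equiv.mulLeft x) (fun k => by simp [mul_mem_cancel_left hx])
      fun k _ => by simp [F, mul_assoc]
  rw [← h2, mul_smul_comm, smul_mul_assoc, ← map_mul, ← map_mul] at h3
  refine hρ (smul_right_injective R (fun H => h ?_) h3)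
  refine ((ZMod.natCast_eq_zero_iff _ _).1 H).trans (Dvd.dvd.trans (dvd_of_eq ?_)
    (card_dvd_of_le (inf_le_left : N ⊓ centralizer {y} ≤ N)))
  rw [Finset.filter_filter, Nat.card_eq_fintype_card, Fintype.card_subtype]
  congr

end CfsgLib.Fus4
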