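import Mathlib
import Cfsg.Agent.Lib.Fus4.Theta
import Cfsg.Agent.Lib.Fus2.Base

/-!
A linear group with Sylow subgroup `⟨s, y⟩` of order `p ^ 2`, `s` regular unipotent: under a
weight condition `y` is quadratic.
-/

set_option autoImplicit false
set_option linter.unusedSectionVars false

namespace CfsgLib.Fus4

open Module Subgroup CfsgLib.Fusion

variable {p : ℕ} [hp : Fact p.Prime] {V : Type*} [AddCommGroup V] [Module (ZMod p) V] [Finite V]
  {W : ℕ → Submodule (ZMod p) V} {d : ℕ} {v₀ : V} {G H P : Subgroup (End (ZMod p) V)ˣ}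
  {s y g x : (End (ZMod p) V)ˣ}

local notation "R" => End (ZMod p) V

instance finite_end : Finite R := Finite.of_injective _ DFunLike.coe_injective

theorem cast_p : ((p : ℕ) : R) = 0 := by
  rw [← map_natCast (algebraMap (ZMod p) R), ZMod.natCast_self, map_zero]

theorem mem_normalizer_st {ι : Type*} {X Y : ι → Submodule (ZMod p) V} (hg : g ∈ H)
    (h : ∀ i, g ∈ st (X i) (X i) ∧ g ∈ st (Y i) (Y i)) :
    g ∈ normalizer ((H ⊓ ⨅ i, st (X i) (Y i) : Subgroup Rˣ) : Set Rˣ) :=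
  mem_normalizer_fintype fun _ hx => ⟨H.mul_mem (H.mul_mem hg hx.1) (H.inv_mem hg),
    mem_iInf.2 fun i => st_conj (h i).1 (h i).2 (mem_iInf.1 hx.2 i)⟩

theorem mem_normalizer_syl {ι : Type*} {X Y : ι → Submodule (ZMod p) V} (hP : SylIn p P H)
    (h1 : ∀ i, P ≤ st (X i) (Y i))
    (h2 : ∀ g ∈ H, (∀ i, g ∈ st (X i) (Y i)) → IsNilpotent ((g : R) - 1)) (hg : g ∈ H)
    (h : ∀ i, g ∈ st (X i) (X i) ∧ g ∈ st (Y i) (Y i)) : g ∈ normalizer (P : Set Rˣ) :=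
  hP.eq_of_le (U := H ⊓ ⨅ i, st (X i) (Y i))
    (isPGroup_of_nil cast_p fun g hg => h2 g hg.1 (mem_iInf.1 hg.2))
    (le_inf hP.le (le_iInf h1)) inf_le_left ▸ mem_normalizer_st hg h

theorem le_st_of_fl (hW : Antitone W) (h : ∀ x ∈ P, (x : R) - 1 ∈ Fl W 1) (t : ℕ) :
    P ≤ st (W t) (W (t + 1)) := fun x hx =>
  ⟨(le_st (fun g hg => fl_zero_of hW (h g hg) t) hx).1, h x hx t⟩

theorem Flag.d_le (f : Flag d W ((s : R) - 1) v₀) (hs : s ^ p = 1) : d ≤ p := by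
  by_contra H
  refine f.reg p (by omega) ?_
  have := geom_sum_mul (s : R) p
  rw [geom_sum_char, ← pow_succ, Nat.sub_add_cancel hp.out.one_le, ← Units.val_pow_eq_pow_val, hs,
    Units.val_one, sub_self] at this
  rw [this]
  exact zero_mem _

theorem conj_pow_sub (g x : Rˣ) (m : ℕ) :
    (((g * x * g⁻¹ : Rˣ) : R) - 1) ^ m = g * ((x : R) - 1) ^ m * ↑g⁻¹ := by
  rw [← Units.conj_pow, mul_sub, sub_mul, mul_one, Units.mul_inv, Units.val_mul, Units.val_mul]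

theorem exists_fin_pow {Γ : Type*} [Group Γ] {x : Γ} (hx : x ^ p = 1) (i j : Fin p) :
    ∃ l : Fin p, x ^ (l : ℕ) = (x ^ (i : ℕ))⁻¹ * x ^ (j : ℕ) :=
  ⟨⟨(p - i + j) % p, Nat.mod_lt _ hp.out.pos⟩, by
    rw [← pow_eq_pow_mod _ hx, eq_inv_mul_iff_mul_eq, ← pow_add, ← add_assoc,
      Nat.add_sub_cancel' i.2.le, pow_add, hx, one_mul]⟩

theorem fin_eq {i j : Fin p} (h : ((i : ℕ) : ZMod p) = (j : ℕ)) : i = j := by
  rw [ZMod.natCast_eq_natCast_iff', Nat.mod_eq_of_lt i.2, Nat.mod_eq_of_lt j.2] at h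
  exact Fin.ext h

/-- The configuration with a Sylow subgroup of order `p ^ 2`. -/
structure Two (d : ℕ) (W : ℕ → Submodule (ZMod p) V) (v₀ : V) (G P : Subgroup Rˣ) (s y : Rˣ) :
    Prop extends Flag d W ((s : R) - 1) v₀ where
  syl : SylIn p P G
  op : ∀ N ≤ G, IsPGroup p N → G ≤ normalizer (N : Set Rˣ) → N = ⊥
  sP : s ∈ P
  yP : y ∈ P
  gen : ∀ x ∈ P, ∃ a b : ℕ, x = s ^ a * y ^ b
  comm : Commute s y
  sp : s ^ p = 1
  yp : y ^ p = 1
  y1 : y ≠ 1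
  y2 : ((y : R) - 1) v₀ ∈ W 2
  wt : ∀ τ ∈ G, τ ∈ normalizer (P : Set Rˣ) → ∃ a b c : ℕ, τ * s * τ⁻¹ = s ^ a * y ^ b ∧
    τ * y * τ⁻¹ = y ^ c ∧ (τ : R) v₀ - ((a : ZMod p) * c) • v₀ ∈ W 1

namespace Two

variable (h : Two d W v₀ G P s y)
include h

theorem cy : Commute ((y : R) - 1) ((s : R) - 1) :=
  ((h.comm.symm.units_val.sub_right (Commute.one_right _))).sub_left (Commute.one_left _)

theorem y0 : (y : R) - 1 ≠ 0 := fun e => h.y1 (Units.ext (sub_eq_zero.1 e))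

theorem yfl : (y : R) - 1 ∈ Fl W 2 := h.fl_of_comm h.cy h.y2

theorem two_lt : 2 < d := lt_of_not_ge fun H => h.y0 (h.fl_eq0 h.yfl H)

theorem ypow (b : ℕ) : (y : R) ^ b - 1 ∈ Fl W 2 := by
  simpa using add_mem (fl_mono h.anti (fl_binom h.anti h.yfl b) (by omega))
    (Submodule.smul_mem _ (b : ZMod p) h.yfl)

theorem ld (a b : ℕ) : Ld W ((s : R) - 1) (((s ^ a * y ^ b : Rˣ) : R) - 1) a 1 := by
  have := add_mem (fl_mul (fl_binom h.anti h.sig a) (fl_zero_of h.anti (h.ypow b)) rfl)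
    (fl_mul (add_mem fl_one (Submodule.smul_mem _ (a : ZMod p) (fl_mono h.anti h.sig (by omega))))
      (h.ypow b) rfl)
  have e : ((s ^ a * y ^ b : Rˣ) : R) - 1 - (a : ZMod p) • ((s : R) - 1) ^ 1 =
      ((s : R) ^ a - 1 - (a : ZMod p) • ((s : R) - 1)) * (y : R) ^ b +
        (1 + (a : ZMod p) • ((s : R) - 1)) * ((y : R) ^ b - 1) := by
    simp only [Units.val_mul, Units.val_pow_eq_pow_val, pow_one, sub_mul, mul_sub, add_mul, one_mul,
      mul_one]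
    abel
  rw [Ld, e]
  exact this

theorem pfl (hx : x ∈ P) : Commute (x : R) ((s : R) - 1) ∧ (x : R) - 1 ∈ Fl W 1 := by
  obtain ⟨a, b, rfl⟩ := h.gen x hx
  exact ⟨(((Commute.refl s).pow_left a).mul_left (h.comm.symm.pow_left b)).units_val.sub_right
    (Commute.one_right _), h.ld_fl (h.ld a b)⟩

theorem cP (hx : x ∈ P) : Commute x y := by
  obtain ⟨a, b, rfl⟩ := h.gen x hx
  exact (h.comm.pow_left a).mul_left ((Commute.refl y).pow_left b)

theorem uniq {a b a' b' : ℕ} (e : s ^ a * y ^ b = s ^ a' * y ^ b') : (a : ZMod p) = a' :=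
  h.ld_unique (h.ld a b) (e ▸ h.ld a' b') (by have := h.two_lt; omega)

theorem reg' (hx : x ∈ P) (hy : x ∉ zpowers y) : ∃ c ≠ 0, Ld W ((s : R) - 1) ((x : R) - 1) c 1 := by
  obtain ⟨a, b, rfl⟩ := h.gen x hx
  refine ⟨_, fun H => hy ?_, h.ld a b⟩
  obtain ⟨c, rfl⟩ := (ZMod.natCast_eq_zero_iff a p).1 H
  rw [pow_mul, h.sp, one_pow, one_mul]
  exact pow_mem (mem_zpowers y) b

theorem flag (hx : x ∈ P) (hy : x ∉ zpowers y) (hg : g⁻¹ * x * g ∈ P) (t : ℕ) :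
    g ∈ st (W t) (W t) := by
  obtain ⟨c, hc, h1⟩ := h.reg' hx hy
  have e : ∀ m, (((g⁻¹ * x * g : Rˣ) : R) - 1) ^ m = ↑g⁻¹ * ((x : R) - 1) ^ m * g := fun m => by
    simpa using conj_pow_sub g⁻¹ x m
  have := h.two_lt
  obtain ⟨c', hc', h2⟩ := h.reg' hg fun H => by
    obtain ⟨b, hb⟩ := mem_powers_iff_mem_zpowers.2 H
    have h3 := h.fl_eq0 (fl_pow (h.ypow b) (d - 1)) (by omega)
    rw [← Units.val_pow_eq_pow_val, show y ^ b = _ from hb, e, Units.mul_left_eq_zero,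
      Units.mul_right_eq_zero] at h3
    exact h.reg 0 (by omega) ((h.ld_ker h1 hc (by omega)).2 (by rw [h3]; rfl))
  obtain ⟨t, ht, e'⟩ : ∃ t' ≤ d, W t = W t' := (le_total t d).elim (fun H => ⟨t, H, rfl⟩)
    fun H => ⟨d, le_rfl, le_antisymm (h.anti H) (h.bot ▸ bot_le)⟩
  rw [e']
  refine mem_st_self fun v => ?_
  rw [h.ld_ker h1 hc ht, h.ld_ker h2 hc' ht, e, End.mul_apply, End.mul_apply]
  exact ⟨fun H => by rw [H, map_zero], fun H => by simpa [ap_inv] using congrArg (g : R) H⟩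

theorem norm (hG : g ∈ G) (hx : x ∈ P) (hy : x ∉ zpowers y) (hg : g⁻¹ * x * g ∈ P) :
    g ∈ normalizer (P : Set Rˣ) :=
  mem_normalizer_syl h.syl (le_st_of_fl h.anti fun _ hx => (h.pfl hx).2)
    (fun _ _ H => h.nil fun t => (H t).2) hG fun t => ⟨h.flag hx hy hg t, h.flag hx hy hg _⟩

theorem s_not_mem : s ∉ zpowers y := fun H => by
  obtain ⟨b, hb⟩ := mem_powers_iff_mem_zpowers.2 H
  simpa using h.uniq (a := 1) (b := 0) (a' := 0) (b' := b) (by simpa using hb.symm)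

theorem tau {φ : V →ₗ[ZMod p] ZMod p} (hφ : φ v₀ = 1) (hφ' : ∀ v, φ v = 0 ↔ v ∈ W 1) {k : ℕ}
    {u : ZMod p} (hk : k < d) (hu : u ≠ 0) (hl : Ld W ((s : R) - 1) ((y : R) - 1) u k) (hG : g ∈ G)
    (hg : g ∈ normalizer (P : Set Rˣ)) : g ∈ st (W 1) (W 1) ∧ ∃ a : ZMod p,
      (∀ m, Ld W ((s : R) - 1) (g * ((s : R) - 1) ^ m * ↑g⁻¹) (a ^ m) m) ∧
        φ ((g : R) v₀) = a ^ (k + 1) ∧ (Commute g y → a ^ k = 1) := by
  have h0 := h.flag h.sP h.s_not_mem (Fus2.conj_mem' hg h.sP)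
  obtain ⟨a, b, c, h1, h2, h3⟩ := h.wt g hG hg
  have h4 : ∀ m, Ld W ((s : R) - 1) (g * ((s : R) - 1) ^ m * ↑g⁻¹) (a ^ m) m := fun m => by
    rw [← conj_pow_sub, h1]; exact h.ld_pow (h.ld a b) m
  have k0 : k ≠ 0 := by
    rintro rfl
    exact hu (h.coef hk (by
      simpa using sub_mem (h.anti (by omega) h.y2 : _ ∈ W 1) (hl 0 _ (h.mem0 v₀))))
  have h5 : Ld W ((s : R) - 1) (((g * y * g⁻¹ : Rˣ) : R) - 1) (u * a ^ k) k := by
    have := add_mem (fl_mul (fl_mul (a := 0) (fun t v => ((h0 t).1 v).2) hl (zero_add _).symm)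
      (b := 0) (fun t v => ((inv_mem (h0 t)).1 v).2) rfl) (Submodule.smul_mem _ u (h4 k))
    rw [← pow_one (((g * y * g⁻¹ : Rˣ) : R) - 1), conj_pow_sub, pow_one, Ld]
    convert this using 1
    simp only [mul_sub, sub_mul, smul_sub, mul_smul_comm, smul_mul_assoc, smul_smul]
    abel
  have h6 : ∀ c : ℕ, Ld W ((s : R) - 1) (((y ^ c : Rˣ) : R) - 1) (c * u) k := fun c => by
    have := add_mem (fl_mono h.anti (fl_binom h.anti (h.ld_fl hl) c) (show k + 1 ≤ _ by omega))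
      (Submodule.smul_mem _ (c : ZMod p) hl)
    rw [Ld, Units.val_pow_eq_pow_val]
    convert this using 1
    simp only [smul_sub, smul_smul]
    abel
  have h7 : (c : ZMod p) = a ^ k :=
    mul_right_cancel₀ hu ((h.ld_unique (h6 c) (h2 ▸ h5) hk).trans (mul_comm _ _))
  refine ⟨h0 1, a, h4, ?_, fun H => ?_⟩
  · simpa [hφ, sub_eq_zero, h7, pow_succ'] using (hφ' _).2 h3
  · rw [H.eq, mul_inv_cancel_right] at h5
    exact mul_left_cancel₀ hu ((h.ld_unique h5 hl hk).trans (mul_one u).symm)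

theorem ex_k (h2 : ((y : R) - 1) ^ 2 ≠ 0) : ∃ k, 2 ≤ k ∧ 2 * k < d ∧ ∃ u ≠ 0,
    Ld W ((s : R) - 1) ((y : R) - 1) u k := by
  obtain ⟨k, hk, u, hu, hl⟩ := h.lead h.cy h.y0
  refine ⟨k, le_of_not_gt fun H => hu (h.coef hk ?_), lt_of_not_ge fun H =>
    h2 (h.fl_eq0 (fl_pow (h.ld_fl hl) 2) (by omega)), u, hu, hl⟩
  have := sub_mem (h.anti (by omega) h.y2 : _ ∈ W (0 + (k + 1))) (hl 0 _ (h.mem0 v₀))
  rwa [LinearMap.sub_apply _ (_ • _), sub_sub_cancel, zero_add] at this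

theorem stepA (h2 : ((y : R) - 1) ^ 2 ≠ 0) (hG : g ∈ G) (hc : Commute g y) :
    g ∈ normalizer (P : Set Rˣ) := by
  obtain ⟨k, k2, hk, u, hu, hl⟩ := h.ex_k h2
  have := h.d_le h.sp
  obtain ⟨φ, hφ, hφ'⟩ := h.exists_phi (by omega)
  have hP : SylIn p P (G ⊓ centralizer {y}) := h.syl.of_le
    (le_inf h.syl.le fun x hx => mem_centralizer_singleton_iff.2 (h.cP hx)) inf_le_left
  have cm : ∀ g ∈ G ⊓ centralizer {y}, Commute (g : R) ((y : R) - 1) := fun g hg =>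
    (Commute.units_val (mem_centralizer_singleton_iff.1 hg.2)).sub_right (Commute.one_right _)
  have hW : G ⊓ centralizer {y} ≤ st (W k) (W k) := le_st fun g hg v hv => by
    rw [h.ld_surj hl hu] at hv ⊢
    obtain ⟨w, rfl⟩ := hv
    exact ⟨_, by rw [← End.mul_apply, ← (cm g hg).eq, End.mul_apply]⟩
  obtain ⟨Θ, A, c, c0, hA, h3, h4⟩ := theta h.toFlag hP (m := 1) (by omega) hW hφ hφ'
    (fun x => h.pfl) (fun τ hτ hn => by
      obtain ⟨h3, a, h4, h5, h6⟩ := h.tau hφ hφ' (by omega) hu hl hτ.1 hn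
      rw [h5, pow_succ a, h6 (mem_centralizer_singleton_iff.1 hτ.2), one_mul, ← pow_one a]
      exact ⟨h3, h4 1⟩)
    (fun i : Fin p => s ^ (i : ℕ)) (fun i => pow_mem h.sP _) (by simp) (exists_fin_pow h.sp)
    (fun g hg hn i j H => by
      by_contra hij
      refine hn (h.norm hg.1 (mul_mem (inv_mem (pow_mem h.sP _)) (pow_mem h.sP _)) (fun H => ?_) H)
      obtain ⟨b, hb⟩ := mem_powers_iff_mem_zpowers.2 H
      exact hij (fin_eq (h.uniq (b := b) (b' := 0) (by rw [show y ^ b = _ from hb]; simp))))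
    (norm_fl h.anti h.sig (fl_zero_of h.anti (h.pfl (inv_mem h.sP)).2) _ _)
  have h5 : ∀ t, t + 1 ≤ k → ∀ v, v ∈ W t ↔ ∀ w, Θ w v ∈ W (t + 1) := fun t ht v =>
    ⟨fun hv w => by
      simpa using add_mem (h.anti (show t + 1 ≤ _ by omega) (h4 0 t w (h.mem0 w) v hv))
        (Submodule.smul_mem _ (φ w) (h.ld_fl hA t v hv)), fun H => by
      induction t with
      | zero => exact h.mem0 v
      | succ t ih =>
        have h6 := h4 0 t v₀ (h.mem0 _) v (ih (by omega) fun w => h.anti (by omega) (H w))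
        exact h.ld_inj hA c0 (by omega) (by
          simpa [hφ] using sub_mem (H v₀) (h.anti (by omega) h6))⟩
  have h6 : ∀ j t, t + j = k → G ⊓ centralizer {y} ≤ st (W t) (W t) := fun j => by
    induction j with
    | zero => rintro t rfl; exact hW
    | succ j ih =>
      refine fun t ht => le_st fun g hg v hv => (h5 t (by omega) _).2 fun w => ?_
      rw [← ap_inv g w, h3 g hg, End.mul_apply, inv_ap]
      exact ((ih (t + 1) (by omega) hg).1 _).2 ((h5 t (by omega) v).1 hv _)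
  have hg : g ∈ G ⊓ centralizer {y} := ⟨hG, mem_centralizer_singleton_iff.2 hc⟩
  refine mem_normalizer_syl (ι := Fin k) (X := fun t => W t) (Y := fun t => W (t + 1)) hP
    (fun t => le_st_of_fl h.anti (fun _ hx => (h.pfl hx).2) t) (fun g hg H => ?_) hg
    fun t => ⟨h6 (k - t) _ (by omega) hg, h6 (k - (t + 1)) _ (by omega) hg⟩
  refine nil_of_comm (m := k) (h.nil (fl_mono h.anti h.yfl (by omega)))
    ((cm g hg).sub_left (Commute.one_left _)) fun v => ?_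
  have : ∀ t ≤ k, (((g : R) - 1) ^ t) v ∈ W t := fun t ht => by
    induction t with
    | zero => exact h.mem0 _
    | succ t ih => rw [pow_succ']; exact (H ⟨t, ht⟩).2 _ (ih (by omega))
  obtain ⟨w, hw⟩ := h.ld_surj hl hu ▸ this k le_rfl
  exact ⟨w, hw.symm⟩

theorem ti (h2 : ((y : R) - 1) ^ 2 ≠ 0) (hG : g ∈ G) (hx : x ∈ P) (h1 : x ≠ 1)
    (hg : g⁻¹ * x * g ∈ P) : g ∈ normalizer (P : Set Rˣ) := by
  by_cases hy : x ∈ zpowers y; swap
  · exact h.norm hG hx hy hg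
  by_cases hy' : g⁻¹ * x * g ∈ zpowers y; swap
  · exact inv_mem_iff.1 (h.norm (inv_mem hG) hg hy' (by simpa [mul_assoc] using hx))
  obtain ⟨i, hi⟩ := mem_zpowers_iff.1 hy'
  have h3 : y ∈ centralizer {g⁻¹ * s * g} := by
    refine Fus2.mem_of_zpow_mem (i := i) (h.syl.isPGroup.to_le (zpowers_le.2 h.yP)) ?_ ?_
    · rintro ⟨c, rfl⟩
      rw [zpow_mul, zpow_natCast, h.yp, one_zpow] at hi
      exact h1 (by simpa [mul_assoc] using congrArg (fun z => g * z * g⁻¹) hi.symm)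
    · obtain ⟨j, rfl⟩ := mem_zpowers_iff.1 hy
      rw [hi, mem_centralizer_singleton_iff]
      simpa [mul_assoc] using congrArg (· * g) (h.comm.zpow_right j).symm.eq
  have sG := h.syl.le h.sP
  have h4 := h.stepA h2 (mul_mem (mul_mem (inv_mem hG) sG) hG)
    (mem_centralizer_singleton_iff.1 h3).symm
  refine h.norm hG h.sP h.s_not_mem ((h.syl.eq_of_le (U := P ⊔ zpowers (g⁻¹ * s * g))
    (h.syl.isPGroup.to_sup_of_normal_left' ?_ (zpowers_le.2 h4)) le_sup_left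
    (sup_le h.syl.le (zpowers_le.2 (mul_mem (mul_mem (inv_mem hG) sG) hG)))).le
    (mem_sup_right (mem_zpowers _)))
  exact pg_of_pow (n := 1) (by simpa [h.sp] using conj_pow (a := g⁻¹) (b := s) (i := p))

theorem quad : ((y : R) - 1) ^ 2 = 0 := by
  by_contra h2
  obtain ⟨k, k2, hk, u, hu, hl⟩ := h.ex_k h2
  have := h.d_le h.sp
  obtain ⟨φ, hφ, hφ'⟩ := h.exists_phi (by omega)
  obtain ⟨Θ, A, c, c0, hA, h3, h4⟩ := theta h.toFlag h.syl (D := d) (m := k + 1)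
    (ν := 1 * (p - 1) + 2 * (p - 1)) (by omega)
    (le_st fun g _ v hv => by rw [h.eq0 hv le_rfl, map_zero]; exact zero_mem _) hφ hφ'
    (fun x => h.pfl) (fun τ hτ hn => by
      obtain ⟨h3, a, h4, h5, -⟩ := h.tau hφ hφ' (by omega) hu hl hτ hn
      exact ⟨h3, h5 ▸ h4 _⟩)
    (fun i : Fin p × Fin p => s ^ (i.1 : ℕ) * y ^ (i.2 : ℕ))
    (fun i => mul_mem (pow_mem h.sP _) (pow_mem h.yP _)) (by simp)
    (fun i j => by
      obtain ⟨a, ha⟩ := exists_fin_pow h.sp i.1 j.1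
      obtain ⟨b, hb⟩ := exists_fin_pow h.yp i.2 j.2
      refine ⟨(a, b), ?_⟩
      rw [ha, hb, mul_inv_rev, mul_assoc (_)⁻¹ (_)⁻¹, ← mul_assoc (s ^ _)⁻¹, ← ha, ← mul_assoc,
        (h.comm.pow_pow _ _).inv_right.eq, mul_assoc])
    (fun g hg hn i j H => by
      have e := inv_mul_eq_one.1 (not_not.1 fun H' => hn (h.ti h2 hg (mul_mem (inv_mem
        (mul_mem (pow_mem h.sP _) (pow_mem h.yP _))) (mul_mem (pow_mem h.sP _) (pow_mem h.yP _))) H' H))
      have e1 := fin_eq (h.uniq e)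
      rw [e1, mul_right_inj, pow_inj_mod, orderOf_eq_prime h.yp h.y1, Nat.mod_eq_of_lt i.2.2,
        Nat.mod_eq_of_lt j.2.2] at e
      exact Prod.ext e1 (Fin.ext e))
    (by
      simp only [Fintype.sum_prod_type, map_mul, ← Finset.mul_sum, ← Finset.sum_mul]
      exact fl_mul (norm_fl h.anti h.sig (fl_zero_of h.anti (h.pfl (inv_mem h.sP)).2) _ _)
        (norm_fl h.anti h.yfl (fl_zero_of h.anti (h.pfl (inv_mem h.yP)).2) _ _) rfl)
  have h5 : ∀ w, w ∈ W 1 ↔ Θ w = 0 := fun w => ⟨fun hw => LinearMap.ext fun v => by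
    simpa [(hφ' w).2 hw] using h.eq0 (h4 1 0 w hw v (h.mem0 v)) (by omega), fun H => by
      have h5 := sub_mem (neg_mem (h.anti (show k + 1 + 1 ≤ _ by omega) (h4 0 0 w (h.mem0 w) v₀ (h.mem0 _))))
        (Submodule.smul_mem _ (φ w) (by simpa using h.ld_ap hA 0))
      exact (hφ' w).1 ((mul_eq_zero.1 (h.coef (t := k + 1) (by omega) (by
        simpa [H, smul_sub, smul_smul] using h5))).resolve_right c0)⟩
  have h6 : G ≤ st (W 1) (W 1) := le_st fun g hg v hv => by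
    rw [h5, h3 g hg, (h5 v).1 hv, mul_zero, zero_mul]
  have hB : Ld W ((s : R) - 1) (Θ v₀) c (k + 1) := fun t v hv => by
    have h7 : Θ v₀ v - φ v₀ • A v ∈ W (t + (k + 1 + 1)) := by
      by_cases H : t + (k + 1 + 1) ≤ d
      · exact h.anti (by omega) (h4 0 t v₀ (h.mem0 _) v hv)
      · rw [h.eq0 (h4 0 t v₀ (h.mem0 _) v hv) (by omega)]; exact zero_mem _
    simpa [hφ] using add_mem h7 (hA t v hv)
  have h7 : ∀ g ∈ G, (g : R) * Θ v₀ = φ ((g : R) v₀) • (Θ v₀ * g) := fun g hg => by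
    have := (h5 _).1 ((hφ' ((g : R) v₀ - φ ((g : R) v₀) • v₀)).1 (by simp [hφ]))
    rw [map_sub, map_smul, sub_eq_zero, h3 g hg] at this
    rw [← smul_mul_assoc, ← this, Units.inv_mul_cancel_right]
  have h8 : G ≤ st (W (k + 1)) (W (k + 1)) := le_st fun g hg v hv => by
    rw [h.ld_surj hB c0] at hv ⊢
    obtain ⟨w, rfl⟩ := hv
    rw [← End.mul_apply, h7 g hg]
    exact Submodule.smul_mem _ _ ⟨_, rfl⟩
  have h9 := h.op (G ⊓ ⨅ i : Fin 2, st (W i) (W (i * k + 1))) inf_le_left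
    (isPGroup_of_nil cast_p fun g hg => by
      have a0 : g ∈ st (W 0) (W 1) := by simpa using mem_iInf.1 hg.2 0
      have a1 : g ∈ st (W 1) (W (k + 1)) := by simpa using mem_iInf.1 hg.2 1
      have e := (hφ' _).2 (a0.2 v₀ (h.mem0 _))
      rw [map_sub, hφ, sub_eq_zero] at e
      refine nil_of_comm (m := 2) (h.nil (fl_mono h.anti (h.ld_fl hB) (by omega)))
        (Commute.sub_left ((h7 g hg.1).trans (by rw [e, one_smul])) (Commute.one_left _)) fun v => ?_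
      obtain ⟨w, hw⟩ := h.ld_surj hB c0 ▸ a1.2 _ (a0.2 v (h.mem0 _))
      exact ⟨w, by simpa [sq] using hw.symm⟩)
    fun g hg => mem_normalizer_st hg fun i => by
      fin_cases i
      · exact ⟨mem_st_self fun v => by simp [h.top], by simpa using h6 hg⟩
      · exact ⟨h6 hg, by simpa using h8 hg⟩
  refine h.y1 (mem_bot.1 (h9 ▸ ⟨h.syl.le h.yP, mem_iInf.2 fun i => ?_⟩))
  have a0 := le_st_of_fl h.anti (fun _ hx => (h.pfl hx).2)
  fin_cases i
  · simpa using a0 0 h.yP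
  · exact ⟨(a0 1 h.yP).1, by simpa [add_comm] using h.ld_fl hl 1⟩

end Two

end CfsgLib.Fus4
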