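import Mathlib
import Cfsg.Agent.Lib.Fus4.QP
import Cfsg.Agent.Lib.Fus4.Two

/-!
The central involution attached to a quadratic element, and the quadratic case.
-/

set_option autoImplicit false
set_option linter.unusedSectionVars false

namespace CfsgLib.Fus4

open Polynomial Subgroup Module CfsgLib.Dickson CfsgLib.QuadPair CfsgLib.Fusion
open scoped MatrixGroups

variable {p : ℕ} [hp : Fact p.Prime]

section

variable {R G : Type*} [Ring R] [Algebra (ZMod p) R] [Group G] [Finite G] {ρ : G →* R} {A : R}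
  {x y : G} {M : Subgroup G}

theorem conj_quad (hA : A * A = 0) (hy : ρ y = 1 + A) (g : G) :
    ∃ B, B * B = 0 ∧ ρ (g * y * g⁻¹) = 1 + B :=
  ⟨ρ g * A * ρ g⁻¹, by
    rw [mul_assoc _ (ρ g⁻¹), ← mul_assoc (ρ g⁻¹), ← mul_assoc (ρ g⁻¹), ← map_mul, inv_mul_cancel,
      map_one, one_mul, ← mul_assoc, mul_assoc (ρ g), hA, mul_zero, zero_mul], by
    rw [map_mul, map_mul, hy, mul_add, add_mul, mul_one, ← map_mul, mul_inv_cancel, map_one]⟩

theorem exists_z_core (hρ : Function.Injective ρ) (h5 : 5 ≤ p) (hA : A * A = 0) (hy : ρ y = 1 + A)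
    {K : Type} [Field K] [CharP K p] {c : K} (hc : c ≠ 0) {π : G →* SL(2, K)} (πx : π x = SL2.uu c)
    (πy : π y = SL2.ll 1) (hyM : y ∈ M) (hxM : x ∉ M)
    (spe : ∀ g, ∀ u ∈ M, IsPGroup p (zpowers u) → u ≠ 1 → g * u * g⁻¹ ∈ M → g ∈ M)
    (mn : ∀ k, k * y * k⁻¹ ∉ M → x ∈ closure {k * y * k⁻¹, y}) :
    ∃ z B, ρ z = 1 + 2 * (A * B + B * A) ∧ A * B * A = -A := by
  have hR : ((p : ℕ) : R) = 0 := cast_p'
  have rig : ∀ g, g * y * g⁻¹ ∈ M → g ∈ M := fun g => spe g y hyM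
    (pg_of_pow (n := 1) (by simpa using pow_p_quad hρ hA hy)) fun e => by
      simpa [e] using congrArg (fun a : SL(2, K) => a 1 0) πy
  obtain ⟨h, hh⟩ : ∃ h, slPGL K (π h) = slPGL K (SL2.mk2 0 1 (-1) 0 (by simp)) := by
    have : Finite π.range := Finite.of_surjective _ π.rangeRestrict_surjective
    have : Finite (π.range.map (slPGL K)) :=
      Finite.of_surjective _ ((slPGL K).subgroupMap_surjective π.range)
    rcases two_transvections_pgl p (by omega) (π.range.map (slPGL K)) hc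
      ⟨_, ⟨x, πx⟩, slPGL_uu c⟩ ⟨_, ⟨y, πy⟩, slPGL_ll 1⟩ with ⟨K₀, -, -, hG⟩ | ⟨h3, -⟩
    · have hle : (pslMap K₀.subtype).range ≤ π.range.map (slPGL K) :=
        hG.elim (fun e => e.ge) (fun e => (range_pslMap_le_range_pglMap _).trans e.ge)
      obtain ⟨_, ⟨h, rfl⟩, e⟩ := hle ⟨(SL2.mk2 0 1 (-1) 0 (by simp) : SL(2, K₀)), rfl⟩
      refine ⟨h, e.trans ?_⟩
      rw [pslMap_apply, pslPGL_mk, slPGL_mk2, map_pm, slPGL_mk2]
      exact pm_congr (by simp) (by simp) (by simp) (by simp)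
    · omega
  have hw : ∀ a : SL(2, K), π h * a * (π h)⁻¹ =
      SL2.mk2 0 1 (-1) 0 (by simp) * a * (SL2.mk2 0 1 (-1) 0 (by simp))⁻¹ := fun a => by
    rcases slPGL_eq_iff.1 hh with e | e <;> simp [e]
  have kM : π.ker ≤ M := fun k hk => by
    by_contra H
    have : x ∈ (centralizer {SL2.ll (1 : K)}).comap π := (closure_le _).2 (by
      rintro _ (rfl | rfl) <;>
        simp [mem_centralizer_singleton_iff, πy, show π k = 1 from hk]) (mn k fun H' => H (rig k H'))
    rw [mem_comap, mem_centralizer_singleton_iff, πx] at this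
    simpa [SL2.mul_ap, hc] using congrArg (fun a : SL(2, K) => a 0 0) this
  have hM : h ∉ M := fun H => hxM (by
    have e : π (h⁻¹ * x * h) = SL2.ll (-c) := by
      rw [map_mul, map_mul, map_inv, mul_assoc, inv_mul_eq_iff_eq_mul, ← eq_mul_inv_iff_mul_eq, πx, hw]
      apply SL2.ext2 <;> simp [SL2.mul_ap, SL2.inv_00, SL2.inv_01, SL2.inv_10, SL2.inv_11]
    have := rig (h⁻¹ * x * h) ((mul_mem_cancel_right (inv_mem hyM)).1 (kM (by
      rw [MonoidHom.mem_ker, map_mul, map_mul, map_mul, map_inv, map_inv, e, πy, ← SL2.ll_add,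
        add_comm, SL2.ll_add]
      group)))
    rwa [mul_mem_cancel_right H, mul_mem_cancel_left (inv_mem H)] at this)
  have kp : ∀ k ∈ π.ker, IsPGroup p (zpowers k) → k = 1 := fun k hk H => not_not.1 fun H' =>
    hM (spe h k (kM hk) H H' (kM (π.normal_ker.conj_mem k hk h)))
  have kc : ∀ k ∈ π.ker, k * y * k⁻¹ = y := fun k => comm_of_quad hρ h5 hA hy fun H => by
    obtain ⟨k, hk⟩ := exists_prime_orderOf_dvd_card' p H
    have := kp k k.2 (pg_of_pow (n := 1) (by
      rw [pow_one, ← hk, ← orderOf_coe, pow_orderOf_eq_one]))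
    rw [show k = 1 from Subtype.ext this, orderOf_one] at hk
    omega
  obtain ⟨B, hB, hy'⟩ := conj_quad hA hy h
  have πy' : π (h * y * h⁻¹) = SL2.uu (-1) := by
    rw [map_mul, map_mul, map_inv, hw, πy]
    apply SL2.ext2 <;> simp [SL2.mul_ap, SL2.inv_00, SL2.inv_01, SL2.inv_10, SL2.inv_11]
  have kc' : ∀ k ∈ π.ker, k * (h * y * h⁻¹) * k⁻¹ = h * y * h⁻¹ := fun k hk => by
    rw [← kc _ (π.normal_ker.conj_mem' k hk h)]
    nth_rewrite 1 [kc _ (π.normal_ker.conj_mem' k hk h)]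
    group
  generalize h * y * h⁻¹ = y' at hy' πy' kc'
  have cm : ∀ k u C, ρ u = 1 + C → k * u * k⁻¹ = u → Commute (ρ k - 1) C := fun k u C e H => by
    have := congrArg ρ (mul_inv_eq_iff_eq_mul.1 H)
    rw [map_mul, map_mul, e, mul_add, add_mul, mul_one, one_mul, add_right_inj] at this
    exact Commute.sub_left this (Commute.one_left _)
  have k1 : y * y' * y * (y' * y * y')⁻¹ ∈ π.ker := by
    rw [MonoidHom.mem_ker, map_mul, map_inv, mul_inv_eq_one]
    simp only [map_mul, πy, πy']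
    apply SL2.ext2 <;> simp [SL2.mul_ap]
  have e1 : ρ (y' * y * y') = (1 + B) * (1 + A) * (1 + B) := by simp only [map_mul, hy, hy']
  have e2 : ρ (y * y' * y) = (1 + A) * (1 + B) * (1 + A) := by simp only [map_mul, hy, hy']
  have k2 := kp _ k1 (pg_of_nil hρ hR ⟨3, by
    have := braid_nil hA hB (cm _ _ _ hy (kc _ k1)) (cm _ _ _ hy' (kc' _ k1)) (by
      rw [add_sub_cancel, ← e1, ← map_mul, inv_mul_cancel_right, e2])
    rwa [← e1, ← map_pow, ← ρ.coe_toHomUnits (_ ^ 2), Units.mul_left_eq_zero] at this⟩)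
  obtain ⟨e3, e4⟩ := braid_pow hA hB (by rw [← e1, ← e2, mul_inv_eq_one.1 k2])
  have k3 : (y * y' * y) ^ 4 = 1 := kp _ (by
    rw [MonoidHom.mem_ker, map_pow, map_mul, map_mul, πy, πy']
    apply SL2.ext2 <;> simp [SL2.mul_ap, pow_succ]) (pg_of_nil hρ hR ⟨2, by
      rw [map_pow, e2, e4, add_sub_cancel_left, show (12 : R) = (12 : ℕ) by simp, ← nsmul_eq_mul,
        _root_.smul_pow, sq (A + _)]
      simp [mul_add, add_mul, mul_assoc, ← mul_assoc A A, hA]⟩)
  rw [← e2, ← map_pow, k3, map_one, left_eq_add, show (12 : R) = (12 : ℕ) by simp, ← nsmul_eq_mul,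
    ← Nat.cast_smul_eq_nsmul (ZMod p), smul_eq_zero, ZMod.natCast_eq_zero_iff] at e4
  have e5 := e4.resolve_left fun H => by
    rcases (Nat.Prime.dvd_mul hp.out (m := 2 ^ 2) (n := 3)).1 H with H | H
    · have := Nat.le_of_dvd (by omega) (hp.out.dvd_of_dvd_pow H)
      omega
    · have := Nat.le_of_dvd (by omega) H
      omega
  exact ⟨(y * y' * y) ^ 2, B, by rw [map_pow, e2, e3, e5, mul_zero, add_zero],
    eq_neg_of_add_eq_zero_right e5⟩

theorem exists_z (hρ : Function.Injective ρ) (h5 : 5 ≤ p) (hA : A * A = 0) (hy : ρ y = 1 + A)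
    {X : Subgroup G} (hyX : y ∈ X) (hyM : y ∈ M) (y1 : y ≠ 1) (hM : ¬ X ≤ M)
    (spe : ∀ g ∈ X, ∀ u ∈ M, IsPGroup p (zpowers u) → u ≠ 1 → g * u * g⁻¹ ∈ M → g ∈ M) :
    ∃ z ∈ X, ∃ B, ρ z = 1 + 2 * (A * B + B * A) ∧ A * B * A = -A := by
  have py : IsPGroup p (zpowers y) := pg_of_pow (n := 1) (by simpa using pow_p_quad hρ hA hy)
  obtain ⟨g, ⟨hg, hgM⟩, mn⟩ := exists_minimalFor_of_wellFoundedLT (fun g => g ∈ X ∧ g ∉ M)
    (fun g => closure {g * y * g⁻¹, y}) (SetLike.not_le_iff_exists.1 hM)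
  have hle : closure {g * y * g⁻¹, y} ≤ X := (closure_le _).2 (by
    rintro _ (rfl | rfl)
    exacts [mul_mem (mul_mem hg hyX) (inv_mem hg), hyX])
  obtain ⟨B, hB, hx⟩ := conj_quad hA hy g
  have my : y ∈ closure {g * y * g⁻¹, y} := subset_closure (by simp)
  have mx : g * y * g⁻¹ ∈ closure {g * y * g⁻¹, y} := subset_closure (by simp)
  have hxM : g * y * g⁻¹ ∉ M := fun H => hgM (spe g hg y hyM py y1 H)
  by_cases hz : IsNilpotent (B * A + A * B)
  · have := (isPGroup_of_nilpotent hρ (cast_p' (p := p)) hB hA hx hy hz).isNilpotent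
    have h1 := normalizerCondition_iff_only_full_group_self_normalizing.1
      (Group.normalizerCondition_of_isNilpotent (G := (closure {g * y * g⁻¹, y} : Subgroup G)))
      (M.subgroupOf _) (le_antisymm (fun (k : closure {g * y * g⁻¹, y}) hk => spe k.1 (hle k.2) y hyM py y1
        ((mem_normalizer_iff.1 hk ⟨y, my⟩).1 hyM)) le_normalizer)
    exact absurd (h1 ▸ mem_top _ : (⟨_, mx⟩ : closure {g * y * g⁻¹, y}) ∈ M.subgroupOf _) hxM
  obtain ⟨K, _, c, π, _, hc, πx, πy⟩ := exists_sl2 (cast_p' (p := p)) hB hA hx hy hz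
  obtain ⟨z, H⟩ := exists_z_core (ρ := ρ.comp (Subgroup.subtype _)) (M := M.subgroupOf _)
    (hρ.comp Subtype.val_injective) h5 hA hy hc πx πy hyM hxM
    (fun k u hu pu u1 H => spe k (hle k.2) u hu 
      (MonoidHom.map_zpowers (Subgroup.subtype _) u ▸ pu.map (Subgroup.subtype _)) (fun e => u1 (Subtype.ext e)) H)
    fun k hk => by
      have := mn (j := k.1) ⟨hle k.2, fun H => hk (mul_mem (mul_mem H hyM) (inv_mem H))⟩
        ((closure_le _).2 (by
          rintro _ (rfl | rfl)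
          exacts [mul_mem (mul_mem k.2 my) (inv_mem k.2), my])) mx
      rw [← mem_map_iff_mem (subtype_injective _), MonoidHom.map_closure]
      simpa [Set.image_pair] using this
  exact ⟨z, hle z.2, H⟩

end

variable {V : Type*} [AddCommGroup V] [Module (ZMod p) V] [Finite V]
  {W : ℕ → Submodule (ZMod p) V} {d : ℕ} {v₀ : V} {G M P : Subgroup (End (ZMod p) V)ˣ}
  {s y x : (End (ZMod p) V)ˣ}

local notation "R" => End (ZMod p) V

theorem Flag.quad_false (f : Flag d W ((s : R) - 1) v₀) (h5 : 5 ≤ p) (hd : 4 ≤ d) (syl : SylIn p P G)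
    (hPM : P ≤ M) (hM : ¬ G ≤ M)
    (spe : ∀ g ∈ G, ∀ u ∈ M, IsPGroup p (zpowers u) → u ≠ 1 → g * u * g⁻¹ ∈ M → g ∈ M) (sP : s ∈ P)
    (yP : y ∈ P) (y1 : y ≠ 1) (cP : ∀ x ∈ P, Commute x y) (h2 : ((y : R) - 1) ^ 2 = 0)
    (wt : ∀ τ ∈ G, τ ∈ normalizer (P : Set Rˣ) → Commute τ y → ∃ a : ZMod p, ∀ t ≤ 2, ∀ v ∈ W t,
      (τ : R) v - a ^ (t + 1) • v ∈ W (t + 1)) : False := by
  obtain ⟨A, hA⟩ : ∃ A, A = (y : R) - 1 := ⟨_, rfl⟩
  rw [← hA, sq] at h2
  obtain ⟨z, hz, B, e, e'⟩ := exists_z (ρ := Units.coeHom R) Units.val_injective h5 h2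
    (by simp [hA]) (syl.le yP) (hPM yP) y1 hM spe
  have zA : (z : R) * A = -A := by
    rw [show (z : R) = _ from e, add_mul, mul_assoc, add_mul, e', mul_assoc, h2]; noncomm_ring
  have Az : A * z = -A := by
    rw [show (z : R) = _ from e, mul_add, two_mul, mul_add, mul_add, ← mul_assoc, h2, ← mul_assoc, e']
    noncomm_ring
  have cm : ∀ g ∈ G ⊓ centralizer {y}, Commute (g : R) A := fun g hg => hA ▸
    (Commute.units_val (mem_centralizer_singleton_iff.1 hg.2)).sub_right (Commute.one_right _)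
  have zy : Commute z y := Units.ext (by
    have := zA.trans Az.symm
    rwa [hA, mul_sub, sub_mul, mul_one, one_mul, sub_left_inj] at this)
  have zC : z ∈ G ⊓ centralizer {y} := ⟨hz, mem_centralizer_singleton_iff.2 zy⟩
  have PC : P ≤ G ⊓ centralizer {y} :=
    le_inf syl.le fun x hx => mem_centralizer_singleton_iff.2 (cP x hx)
  have s0 : ∀ g : Rˣ, g ∈ st ⊤ ⊤ := fun g => mem_st_self fun v => by simp
  have s1 : G ⊓ centralizer {y} ≤ st (LinearMap.ker A) (LinearMap.ker A) := le_st fun g hg v hv => by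
    rw [LinearMap.mem_ker] at hv ⊢
    rw [← End.mul_apply, ← (cm g hg).eq, End.mul_apply, hv, map_zero]
  have s2 : G ⊓ centralizer {y} ≤ st (LinearMap.range A) (LinearMap.range A) := le_st (by
    rintro g hg _ ⟨w, rfl⟩
    exact ⟨_, by rw [← End.mul_apply, ← (cm g hg).eq, End.mul_apply]⟩)
  have s3 : (⊤ : Subgroup Rˣ) ≤ st ⊥ ⊥ := le_st fun g _ v hv => by simp [(Submodule.mem_bot _).1 hv]
  have z1 : z ∈ st (LinearMap.ker A) (LinearMap.range A) := ⟨(s1 zC).1, fun v hv =>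
    ⟨(2 : ZMod p) • B v, by simp [show (z : R) = _ from e, show A v = 0 from hv, two_smul, two_mul]⟩⟩
  have hN := (syl.of_le PC inf_le_left).le_of_le_normalizer (N := (G ⊓ centralizer {y}) ⊓
      (st ⊤ (LinearMap.ker A) ⊓ (st (LinearMap.ker A) (LinearMap.range A) ⊓ st (LinearMap.range A) ⊥)))
    (isPGroup_of_nil cast_p fun g hg => ⟨3, LinearMap.ext fun v =>
      hg.2.2.2.2 _ (hg.2.2.1.2 _ (hg.2.1.2 v trivial))⟩) inf_le_left
    fun g hg => mem_normalizer_fintype fun n hn => ⟨Subgroup.mul_mem _ (mul_mem hg hn.1) (inv_mem hg),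
      st_conj (s0 g) (s1 hg) hn.2.1, st_conj (s1 hg) (s2 hg) hn.2.2.1, st_conj (s2 hg) (s3 trivial) hn.2.2.2⟩
  have cj : ∀ {X Y : Submodule (ZMod p) V} {u x : Rˣ}, u ∈ st X Y → x ∈ st X X → x ∈ st Y Y →
      u * x * u⁻¹ * x⁻¹ ∈ st X Y := fun hu h1 h2 => by
    simpa only [mul_assoc] using mul_mem hu (st_conj h1 h2 (inv_mem hu))
  have zN : z ∈ normalizer (P : Set Rˣ) := mem_normalizer_fintype fun x hx => by
    have xC := PC hx
    have e : -z * x * (-z)⁻¹ = z * x * z⁻¹ := by simp [inv_neg]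
    refine (mul_mem_cancel_right (inv_mem hx)).1 (hN ⟨Subgroup.mul_mem _
      (mul_mem (mul_mem zC xC) (inv_mem zC)) (inv_mem xC), e ▸ cj ⟨fun v => by simp, fun v _ => ?_⟩ (s0 x) (s1 xC), cj z1 (s1 xC) (s2 xC),
      e ▸ cj ⟨fun v => by simpa using (s2 zC).1 v, ?_⟩ (s2 xC) (s3 trivial)⟩)
    · simp [← End.mul_apply A z, Az]
    · rintro _ ⟨w, rfl⟩
      simp [← End.mul_apply z A, zA]
  obtain ⟨a, ha⟩ := wt z hz zN zy
  obtain ⟨k, hk, u, hu, hl⟩ := f.lead (Z := A) (hA ▸ (((cP s sP).symm.units_val.sub_right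
    (Commute.one_right _))).sub_left (Commute.one_left _)) fun H => y1 (Units.ext (by
      rwa [hA, sub_eq_zero] at H))
  have key : ∀ t ≤ 2, t + k < d → a ^ (t + 1) = -1 := fun t ht H => by
    have h1 := f.ld_fl hl _ _ (ha t ht _ (f.pv t))
    rw [map_sub, ← End.mul_apply, Az, map_smul, add_right_comm] at h1
    have h3 := f.coef H (c := (a ^ (t + 1) + 1) * u) (by
      convert neg_mem (add_mem h1 (Submodule.smul_mem _ (a ^ (t + 1) + 1) (f.ld_ap hl t))) using 1
      simp only [LinearMap.neg_apply]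
      module)
    exact eq_neg_of_add_eq_zero_left ((mul_eq_zero.1 h3).resolve_right hu)
  have two : (2 : ZMod p) ≠ 0 := fun H => by
    have := Nat.le_of_dvd (by omega) ((ZMod.natCast_eq_zero_iff 2 p).1 H)
    omega
  obtain rfl : a = -1 := by simpa using key 0 (by omega) (by omega)
  have h3 : d ≤ 1 + k := le_of_not_gt fun H => two (by linear_combination key 1 (by omega) H)
  have h4 := z1.2 _ (f.eq0 (f.ld_fl hl _ _ (f.pv 2)) (by omega))
  rw [← f.ld_surj hl hu] at h4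
  refine two (f.coef (t := 2) (by omega) ?_)
  convert sub_mem (ha 2 le_rfl _ (f.pv 2)) (f.anti (by omega) h4) using 1
  module

theorem Flag.quad_of (f : Flag d W ((s : R) - 1) v₀) (hs : s ^ p = 1) (hx : (x : R) - 1 ∈ Fl W 1)
    (hy : (y : R) - 1 ∈ Fl W 1) (e : x * s = s * y * x) (cs : Commute y s) (cx : Commute y x) :
    ((y : R) - 1) ^ 2 = 0 := by
  by_contra h0
  have c1 := (cs.units_val.sub_right (Commute.one_right _)).sub_left (Commute.one_left _)
  obtain ⟨k, hk, u, hu, hl⟩ := f.lead c1 fun H => h0 (by rw [H, zero_pow two_ne_zero])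
  obtain _ | k := k
  · exact hu (f.coef hk (by simpa using sub_mem (hy 0 _ (f.mem0 v₀)) (hl 0 _ (f.mem0 v₀))))
  obtain ⟨g, hg⟩ := f.cyc (((x : R) - 1) v₀)
  obtain ⟨δ, hδ⟩ : ∃ δ, δ = (x : R) - 1 - aeval ((s : R) - 1) g := ⟨_, rfl⟩
  have cg : ∀ Z, Commute Z ((s : R) - 1) → Commute Z (aeval ((s : R) - 1) g) := fun Z H => by
    rw [aeval_eq_sum_range]
    exact Commute.sum_right _ _ _ fun i _ => (H.pow_right i).smul_right _
  have d0 : δ v₀ = 0 := by rw [hδ, LinearMap.sub_apply, hg, sub_self]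
  have d1 : δ * ((s : R) - 1) = ((s : R) - 1) * δ + s * ((y : R) - 1) * x := by
    have := congrArg Units.val e
    simp only [Units.val_mul] at this
    rw [hδ, sub_mul _ (aeval _ _), mul_sub _ _ (aeval _ _), (cg _ (Commute.refl _)).eq]
    linear_combination (norm := noncomm_ring) this
  have d2 : Commute ((y : R) - 1) δ := hδ ▸ ((cx.units_val.sub_right (Commute.one_right _)).sub_left
    (Commute.one_left _)).sub_right (cg _ c1)
  have l1 : ∀ Z : R, Z - 1 ∈ Fl W 1 → Ld W ((s : R) - 1) Z 1 0 := fun Z H => by simpa [Ld] using H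
  have hε := f.ld_mul (f.ld_mul (l1 _ f.sig) hl) (l1 _ hx)
  have d3 : ∀ t : ℕ, δ ((((s : R) - 1) ^ t) v₀) - (t * u) • (((s : R) - 1) ^ (t + k)) v₀ ∈
      W (t + k + 1) := fun t => by
    induction t with
    | zero => simp [d0]
    | succ t ih =>
      have := add_mem (f.sig _ _ ih) (f.anti (by omega) (f.ld_ap hε t))
      rw [pow_succ', End.mul_apply, ← End.mul_apply δ, d1, add_right_comm t 1 k]
      convert this using 1
      simp only [zero_add, add_zero, ← add_assoc, pow_succ', End.mul_apply, LinearMap.add_apply, map_sub,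
        map_smul, Nat.cast_succ]
      module
  have d4 : δ ∈ Fl W k := f.fl_of fun t => by
    simpa using add_mem (f.anti (Nat.le_succ _) (d3 t)) (Submodule.smul_mem _ (t * u) (f.pv _))
  have d5 := d4 _ _ (f.ld_ap hl 0)
  rw [pow_zero, End.one_apply, map_sub, ← End.mul_apply, ← d2.eq, End.mul_apply, d0, map_zero,
    map_smul, zero_add] at d5
  refine h0 (f.fl_eq0 (fl_pow (f.ld_fl hl) 2) (le_of_not_gt fun H => ?_))
  have d6 := f.coef (t := k + 1 + k) (c := u * ((k + 1 : ℕ) * u)) (by omega) (by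
    convert neg_mem (add_mem (f.anti (by omega) d5) (Submodule.smul_mem _ u (d3 (k + 1)))) using 1
    module)
  have := f.d_le hs
  simp only [mul_eq_zero, hu, false_or, or_false, ZMod.natCast_eq_zero_iff] at d6
  have := Nat.le_of_dvd (by omega) d6
  omega

end CfsgLib.Fus4
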