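import Mathlib
import Cfsg.Agent.Lib.Fus2.MCA
import Cfsg.Agent.Lib.Fus4.Blk
import Cfsg.Agent.Lib.PLocal.ElemRep
import Cfsg.Agent.Lib.MaxCl.Dich

/-!
The Frattini quotient of an essential subgroup as a module for its model, and normal subgroups of
groups of maximal class.
-/

set_option autoImplicit false
set_option linter.unusedSectionVars false

namespace CfsgLib.Fus4

open Subgroup Module Cfsg CfsgLib.LAE CfsgLib.Fusion CfsgLib.MaxCl CfsgLib.Fus2 CfsgLib.PLocal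
open Cfsg.FusionSystem hiding inv_mem
open scoped commutatorElement

universe u

variable {Γ : Type u} [Group Γ] [Finite Γ] {p n i : ℕ} [hp : Fact p.Prime] {S E L X : Subgroup Γ}
  {F : FusionSystem S} {s : Γ}

/-- The module `E / Φ(E)`. -/
structure Lin (p : ℕ) (E L : Subgroup Γ) {V : Type u} [AddCommGroup V] [Module (ZMod p) V]
    (q : Γ → V) (π : L →* (End (ZMod p) V)ˣ) (sb : Subgroup Γ → Submodule (ZMod p) V) : Prop where
  surj : ∀ v, ∃ e ∈ E, q e = v
  add : ∀ a ∈ E, ∀ b ∈ E, q (a * b) = q a + q b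
  zpow : ∀ a ∈ E, ∀ i : ℤ, q (a ^ i) = (i : ZMod p) • q a
  act : ∀ g : L, ∀ e ∈ E, (π g : End (ZMod p) V) (q e) = q (g * e * (g : Γ)⁻¹)
  mem : ∀ X, phi E ≤ X → ∀ e ∈ E, q e ∈ sb X ↔ e ∈ X
  bot : sb (phi E) = ⊥

theorem exists_lin (pE : IsPGroup p E) (hEL : E ≤ L) (hL : L ≤ normalizer (E : Set Γ)) :
    ∃ (V : Type u) (_ : AddCommGroup V) (_ : Module (ZMod p) V) (_ : Finite V) (q : Γ → V)
      (π : L →* (End (ZMod p) V)ˣ) (sb : Subgroup Γ → Submodule (ZMod p) V), Lin p E L q π sb := by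
  classical
  have : ((phi E).subgroupOf L).Normal := (normal_subgroupOf_iff_le_normalizer
    ((map_subtype_le _).trans hEL)).2 (hL.trans (Core.normalizer_le_normalizer_map_frattini E))
  have : (E.subgroupOf L).Normal := (normal_subgroupOf_iff_le_normalizer hEL).2 hL
  let mk := QuotientGroup.mk' ((phi E).subgroupOf L)
  obtain ⟨h1, h2⟩ := (Core.map_frattini_le_iff_of_isPGroup pE).1 le_rfl
  have hV : IsElementaryAbelian p ((E.subgroupOf L).map mk) := by
    refine ⟨⟨⟨?_⟩⟩, ?_⟩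
    · rintro ⟨_, a, ha, rfl⟩ ⟨_, b, hb, rfl⟩
      refine Subtype.ext (commutatorElement_eq_one_iff_mul_comm.1 ?_)
      rw [← map_commutatorElement]
      exact (QuotientGroup.eq_one_iff _).2 (h1 (commutator_mem_commutator ha hb))
    · rintro _ ⟨a, ha, rfl⟩
      rw [← map_pow]
      exact (QuotientGroup.eq_one_iff _).2 (h2 _ ha)
  have hN := (normalizer_eq_top_iff.2 (Normal.map this mk (QuotientGroup.mk'_surjective _))).ge
  let q : Γ → ElemMod hV := fun e =>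
    if h : e ∈ E then ElemMod.ofG hV (mk ⟨e, hEL h⟩) ⟨_, h, rfl⟩ else 0
  have hq : ∀ e (h : e ∈ E), (q e).toG = mk ⟨e, hEL h⟩ := fun e h => by
    simp only [q, dif_pos h]; rfl
  refine ⟨ElemMod hV, inferInstance, inferInstance, inferInstance, q,
    ((ElemMod.rep hV hN).comp (mk.codRestrict ⊤ fun _ => mem_top _)).toHomUnits,
    fun X => ElemMod.sub hV ((X.subgroupOf L).map mk), fun v => ?_, fun a ha b hb => ?_,
    fun a ha i => ?_, fun g e he => ?_, fun X hX e he => ?_, eq_bot_iff.2 fun v hv => ?_⟩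
  · obtain ⟨e, he, e'⟩ := v.toG_mem
    exact ⟨e, he, ElemMod.toG_injective ((hq _ he).trans e')⟩
  · refine ElemMod.toG_injective ?_
    rw [ElemMod.toG_add, hq _ ha, hq _ hb, hq _ (mul_mem ha hb), ← map_mul]; rfl
  · refine ElemMod.toG_injective ?_
    rw [ElemMod.toG_intCast_smul, hq _ ha, hq _ (zpow_mem ha i), ← map_zpow]; rfl
  · refine ElemMod.toG_injective ((ElemMod.toG_rep hN _ _).trans ?_)
    rw [hq _ he, hq _ (conj_mem (hL g.2) he)]; rfl
  · rw [ElemMod.mem_sub, hq _ he]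
    refine ⟨fun ⟨x, hx, e⟩ => ?_, fun H => ⟨_, H, rfl⟩⟩
    have := (QuotientGroup.eq (s := (phi E).subgroupOf L) (a := x) (b := ⟨_, hEL he⟩)).1 e
    simpa using X.mul_mem hx (hX this)
  · obtain ⟨x, hx, e⟩ := ElemMod.mem_sub.1 hv
    exact ElemMod.toG_eq_one.1 (e ▸ (QuotientGroup.eq_one_iff _).2 hx)

theorem AMod.exists_spe (h : AMod p F E L) (hl : LR p F) (hE : F.IsEssential p E) :
    ∃ M : Subgroup L, S.subgroupOf L ≤ M ∧ M ≠ ⊤ ∧ ∀ g, ∀ u ∈ M, IsPGroup p (zpowers u) →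
      u.1 ∉ E → g * u * g⁻¹ ∈ M → g ∈ M := by
  obtain ⟨M, hM⟩ := essential_essAut hl.pS hl.sat hE
  let c : L →* MulAut E := E.normalizerMonoidHom.comp (inclusion h.norm)
  have hc : ∀ g : L, ∀ x ∈ E, extAut (c g) x = g * x * (g : Γ)⁻¹ := fun g x hx =>
    extAut_conjAut (h.norm g.2) hx
  refine ⟨M.comap c, fun g hg => hM.U_le (mem_autInducedBy.2 ⟨g, hg, hc g⟩), fun H => hM.not_le
    fun α hα => ?_, fun g u hu pu uE H => hM.spe (c g) ?_ (c u) hu
      (MonoidHom.map_zpowers c u ▸ pu.map c) (fun H => uE ?_) (by simpa using H)⟩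
  · obtain ⟨g, hg, e⟩ := h.lift E _ le_rfl h.le ((mem_autGroup hE.1.1).1 hα) (img_extAut α)
    rw [show α = c ⟨g, hg⟩ from aut_ext fun x hx => (e x hx).trans (hc ⟨g, hg⟩ x hx).symm]
    exact H.ge (mem_top (⟨g, hg⟩ : L))
  · exact ((h.mor E h.le g g.2 fun x hx => h.le (conj_mem (h.norm g.2) hx)).congr
      fun x hx => (hc g x hx).symm).mem_autGroup
  · obtain ⟨b, hb, e⟩ := mem_Inn.1 H
    have := h.cent (b⁻¹ * u) (L.mul_mem (L.inv_mem (h.EL hb)) u.2) fun x hx => by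
      have := (hc u x hx).symm.trans (e x hx)
      rw [eq_comm, mul_assoc, inv_mul_eq_iff_eq_mul, ← mul_assoc, ← mul_assoc,
        ← mul_inv_eq_iff_eq_mul]
      simpa using this
    exact (mul_mem_cancel_left (E.inv_mem hb)).1 this

section

variable (m : MC S p n)
include m

theorem mc_normal_eq (hX : X ≤ S) (hn : S ≤ normalizer (X : Set Γ))
    (hc : Nat.card X ≤ p ^ (n - 2)) : ∃ i, 1 ≤ i ∧ i + 1 ≤ n ∧ X = lc S i := by
  obtain ⟨k, hk⟩ := exists_card_eq (IsPGroup.to_le m.pgroup hX)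
  have := m.three
  rw [hk, Nat.pow_le_pow_iff_right hp.out.one_lt] at hc
  have : (X.subgroupOf S).Normal := (normal_subgroupOf_iff_le_normalizer hX).2 hn
  have h1 := m.L_le_of_normal (X.subgroupOf S) (k := k)
    (by rw [Nat.card_congr (subgroupOfEquivOfLe hX).toEquiv, hk]) (by omega)
  have h2 : lc S (n - k - 1) ≤ X := fun x hx => h1 (x := ⟨x, lc_le S _ hx⟩) (mem_lc.2 hx)
  refine ⟨n - k - 1, by omega, by omega, (eq_of_le_of_card_ge h2 ?_).symm⟩
  rw [hk, mc_card_lc m (by omega), show n - 1 - (n - k - 1) = k by omega]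

theorem mc_kc_eq (hi : 1 ≤ i) (hn : i + 4 ≤ n) : kc S i = kc S 1 := by
  rw [← map_K, ← map_K, blackburn m hi hn]

theorem mc_exists_unif : ∃ s ∈ S, s ^ p ∈ lc S (n - 2) ∧ ∀ i, 1 ≤ i → i + 3 ≤ n → s ∉ kc S i := by
  obtain ⟨s, hs⟩ := m.exists_unif
  exact ⟨s, s.2, mem_lc.1 (m.unif_pow_mem hs), fun i h1 h2 H => hs.2 i h1 h2 (mem_kc'.2 H)⟩

theorem mc_max (h4 : 4 ≤ n) (hE : E ≤ S) (hi : E.relIndex S = p) (h1 : E ≠ kc S 1)
    (h2 : E ≠ kc S (n - 3)) : MC E p (n - 1) := by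
  have l := mc_lc_le m hE hi
  have i1 := mc_idx_max m l hE hi
  obtain ⟨s, hs, hs1⟩ := exists_not_mem i1
  have u : Unif S n ⟨s, hE hs⟩ := ⟨fun H => hs1 (mem_lc.1 H), fun i hi hn H => by
    have e := (sup_zpowers_eq l i1 hs hs1).symm.trans (sup_zpowers_eq (lc_le_kc S i)
      (mc_idx_max m (lc_le_kc S i) (kc_le S i) (mc_idx_kc m hi hn)) (mem_kc'.1 H) hs1)
    by_cases H : i + 4 ≤ n
    · exact h1 (e.trans (mc_kc_eq m hi H))
    · exact h2 (e.trans (by congr 1; omega))⟩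
  have l2 : lc S (n - 2) ≤ lc S 1 := lc_anti S (by omega)
  have hn := S_n_lc S (n - 2) (hE hs)
  refine mc_of_cent (card_eq_of_relIndex' hE (by rw [m.card, ← pow_succ]; congr 1; omega) hi)
    (by omega) (A := lc S (n - 2) ⊔ zpowers s) (sup_le (l2.trans l) (zpowers_le.2 hs)) ?_
    fun x hx hc => ?_
  · rw [card_eq_of_relIndex le_sup_left (mc_card_lc m (by omega))
      (relIndex_sup_zpowers hn (fun H => hs1 (l2 H)) (mem_lc.1 (m.unif_pow_mem u))), ← pow_succ]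
    congr 1; omega
  · obtain ⟨a, ha, i, rfl⟩ := exists_eq_mul_zpow (IsPGroup.to_le m.pgroup hE) l i1 hs hs1 hx
    refine mul_mem_sup (mem_lc.1 (m.mem_of_comm u (g := ⟨a, lc_le S 1 ha⟩) (mem_lc.2 ha)
      (Subtype.ext ?_))) (zpow_mem (mem_zpowers s) i)
    have := (commute_of_mem hc (mem_sup_right (mem_zpowers s))).mul_left
      ((Commute.refl s).zpow_left i).inv_left
    rw [mul_inv_cancel_right] at this
    exact this.commutator_eq

end

theorem LR.exp_of_cube (hl : LR p F) (h2 : p ≠ 2) (hE : F.IsEssential p E) (m : MC E p 3)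
    (hX : X ≤ E) (hc : X.relIndex E = p) (he : ∀ x ∈ X, x ^ p = 1) : ∀ x ∈ E, x ^ p = 1 := by
  obtain ⟨L, h⟩ := hl.ex E hE.1 hE.2.1
  have h1 : closure {x | x ∈ E ∧ x ^ p = 1} ≤ E := (closure_le E).2 fun x hx => hx.1
  have h3 : ∀ x ∈ closure {x | x ∈ E ∧ x ^ p = 1}, x ^ p = 1 := fun x =>
    pow_eq_one_of_class_two h2 (fun x hx => hx.2) ((commutator_mono h1 h1).trans
      (((mc_center m).ge.trans inf_le_right).trans (centralizer_le h1)))
  rcases eq_or_eq_prime hc (fun x hx => Subgroup.subset_closure (by exact ⟨hX hx, he x hx⟩)) h1 with e | e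
  · refine (h.false_of_chain hl hE hX (mc_phi m ▸ mc_lc_le m hX hc) (fun g hg => ?_) hc
      (mc_phi m ▸ mc_idx_max m (mc_lc_le m hX hc) hX hc)).elim
    refine mem_normalizer_fintype fun x hx => e ▸ subset_closure ⟨conj_mem (h.norm hg) (hX hx), ?_⟩
    rw [conj_pow, he x hx, mul_one, mul_inv_cancel]
  · exact e ▸ h3

end CfsgLib.Fus4
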