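import Mathlib
import Cfsg.Agent.Lib.Fus4.Sec
import Cfsg.Agent.Lib.Fus4.QZ

/-!
Normal essential subgroups of groups of maximal class.
-/

set_option autoImplicit false
set_option linter.unusedSectionVars false

namespace CfsgLib.Fus4

open Subgroup Module Cfsg CfsgLib.LAE CfsgLib.Fusion CfsgLib.MaxCl CfsgLib.Fus2
open Cfsg.FusionSystem hiding inv_mem
open scoped commutatorElement

universe u

variable {Γ : Type u} [Group Γ] [Finite Γ] {p n j d t : ℕ} [hp : Fact p.Prime] {S E L : Subgroup Γ}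
  {F : FusionSystem S} {s e : Γ} {V : Type u} [AddCommGroup V] [Module (ZMod p) V] [Finite V]
  {q : Γ → V} {π : L →* (End (ZMod p) V)ˣ} {sb : Subgroup Γ → Submodule (ZMod p) V} {g : L} {v : V}

local notation "R" => End (ZMod p) V

/-- A term of the lower central series which is essential. -/
structure Cf (n j d : ℕ) (F : FusionSystem S) (q : Γ → V) (π : L →* Rˣ)
    (sb : Subgroup Γ → Submodule (ZMod p) V) (s : L) : Prop extends Lin p (lc S j) L q π sb where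
  hl : LR p F
  ess : F.IsEssential p (lc S j)
  am : AMod p F (lc S j) L
  mc : MC S p n
  j1 : 1 ≤ j
  jd : j + d + 1 ≤ n
  d4 : 4 ≤ d
  ph : phi (lc S j) = lc S (j + d)
  sS : s.1 ∈ S
  sp : s.1 ^ p ∈ lc S j
  su : ∀ i, 1 ≤ i → i + 3 ≤ n → s.1 ∉ kc S i

namespace Cf

variable {s : L} (h : Cf n j d F q π sb s)
include h

local notation "W" => fun t => sb (lc S (j + min t d))
local notation "P" => Subgroup.map π (Subgroup.subgroupOf S L)

theorem mod : Mod p S (lc S j) L := by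
  have := h.am.toMod
  rwa [normalizerIn_eq (S_n_lc S j)] at this

theorem mW (he : e ∈ lc S j) : q e ∈ sb (lc S (j + min t d)) ↔ e ∈ lc S (j + min t d) :=
  h.mem _ (h.ph ▸ lc_anti S (by omega)) e he

theorem exW (hv : v ∈ sb (lc S (j + min t d))) : ∃ e ∈ lc S (j + min t d), q e = v := by
  obtain ⟨e, he, rfl⟩ := h.surj v
  exact ⟨e, (h.mW he).1 hv, rfl⟩

theorem cm (g : L) (he : e ∈ lc S j) : ((π g : R) - 1) (q e) = q ⁅g.1, e⁆ := by
  rw [LinearMap.sub_apply, h.act g e he, End.one_apply, sub_eq_iff_eq_add,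
    ← h.add _ (cm_mem_right (h.am.norm g.2) he) e he, commutatorElement_def, inv_mul_cancel_right]

theorem zero (he : e ∈ lc S j) : q e = 0 ↔ e ∈ phi (lc S j) := by
  rw [← h.mem _ le_rfl e he, h.bot, Submodule.mem_bot]

theorem one_iff : π g = 1 ↔ ∀ e ∈ lc S j, ⁅g.1, e⁆ ∈ phi (lc S j) := by
  rw [Units.ext_iff, Units.val_one, ← sub_eq_zero]
  refine ⟨fun H e he => ?_, fun H => LinearMap.ext fun v => ?_⟩
  · rw [← h.zero (cm_mem_right (h.am.norm g.2) he), ← h.cm g he, H]; rfl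
  · obtain ⟨e, he, rfl⟩ := h.surj v
    rw [h.cm g he, (h.zero (cm_mem_right (h.am.norm g.2) he)).2 (H e he)]; rfl

theorem ker : π g = 1 ↔ g.1 ∈ lc S j := by
  refine ⟨fun H => h.am.le_of_normal h.hl h.ess (N := π.ker.map L.subtype)
    (h.mod.isPGroup_of_cent (map_subtype_le _) ?_) (map_subtype_le _)
    (Core.le_normalizer_map_subtype_of_normal _) ⟨g, H, rfl⟩, fun H => h.one_iff.2 fun e he =>
      Core.commutator_le_map_frattini h.mod.pE (commutator_mem_commutator H he)⟩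
  rintro _ ⟨z, hz, rfl⟩ hc
  exact mem_centralizer_of_frattini hc h.mod.pE (h.one_iff.1 hz)

theorem eq_iff {a b : L} : π a = π b ↔ a.1⁻¹ * b.1 ∈ lc S j := by
  rw [← inv_mul_eq_one, ← map_inv, ← map_mul, h.ker]; rfl

theorem comm_iff {a b : L} : Commute (π a) (π b) ↔ ⁅a.1, b.1⁆ ∈ lc S j := by
  rw [← commutatorElement_eq_one_iff_commute, ← map_commutatorElement, h.ker]; rfl

theorem fl (hg : g.1 ∈ S) : (π g : R) - 1 ∈ Fl W 1 := fun t v hv => by
  obtain ⟨e, he, rfl⟩ := h.exW hv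
  have he' := lc_anti S (Nat.le_add_right j _) he
  rw [h.cm g he']
  exact (h.mW (cm_mem_right (h.am.norm g.2) he')).2 (lc_anti S (by omega) (cm_swap (cm_lc he hg)))

theorem flag (he : e ∈ lc S j) (he' : e ∉ lc S (j + 1)) : Flag d W ((π s : R) - 1) (q e) := by
  have := h.jd
  have := h.j1
  have c : ∀ t, ∃ c ∈ lc S (j + t), (t < d → c ∉ lc S (j + t + 1)) ∧
      (((π s : R) - 1) ^ t) (q e) = q c := fun t => by
    induction t with
    | zero => exact ⟨e, he, fun _ => he', rfl⟩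
    | succ t ih =>
      obtain ⟨c, h1, h2, h3⟩ := ih
      exact ⟨⁅s.1, c⁆, cm_swap (cm_lc h1 h.sS), fun ht H => mc_cm_not h.mc (by omega) h.sS
        (h.su _ (by omega) (by omega)) h1 (h2 (by omega)) (cm_swap H), by
          rw [pow_succ', End.mul_apply, h3, h.cm s (lc_anti S (by omega) h1)]⟩
  refine ⟨fun a b hab v hv => ?_, eq_top_iff.2 fun v _ => ?_, by simp only [min_self, ← h.ph, h.bot],
    h.fl h.sS, fun t v hv => ?_, fun t ht H => ?_⟩
  · obtain ⟨e, he, rfl⟩ := h.exW hv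
    exact (h.mW (lc_anti S (by omega) he)).2 (lc_anti S (by omega) he)
  · obtain ⟨e, he, rfl⟩ := h.surj v
    exact (h.mW he).2 (by simpa using he)
  · obtain ⟨c, h1, h2, h3⟩ := c t
    obtain ⟨x, hx, rfl⟩ := h.exW hv
    by_cases ht : t < d
    · rw [min_eq_left ht.le] at hx
      obtain ⟨a, ha, i, rfl⟩ := exists_eq_mul_zpow (h.hl.pS.to_le (lc_le S _))
        (lc_anti S (Nat.le_succ _)) (mc_idx_lc h.mc (by omega) (by omega)) h1 (h2 ht) hx
      have ha' := lc_anti S (show j ≤ _ by omega) ha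
      have h1' := lc_anti S (show j ≤ _ by omega) h1
      refine ⟨i, ?_⟩
      rw [h3, h.add _ ha' _ (zpow_mem h1' i), h.zpow _ h1', add_sub_cancel_right]
      exact (h.mW ha').2 (lc_anti S (by omega) ha)
    · exact ⟨0, by simpa [show min (t + 1) d = min t d by omega] using hv⟩
  · obtain ⟨c, h1, h2, h3⟩ := c t
    rw [h3] at H
    exact h2 ht (lc_anti S (by omega) ((h.mW (lc_anti S (by omega) h1)).1 H))

theorem wt {a : ℤ} (ht : t < d) (w : Wt g.1 a (lc S (j + t + 1)) (lc S (j + t)))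
    (hv : v ∈ sb (lc S (j + min t d))) :
    (π g : R) v - (a : ZMod p) • v ∈ sb (lc S (j + min (t + 1) d)) := by
  obtain ⟨e, he, rfl⟩ := h.exW hv
  rw [min_eq_left ht.le] at he
  have h1 := lc_anti S (Nat.le_add_right j _) he
  have h2 := lc_anti S (show j ≤ _ by omega) (w e he)
  rw [h.act g e h1, ← mul_inv_cancel_left (e ^ a) (_ * _), h.add _ (zpow_mem h1 a) _ h2, h.zpow _ h1,
    add_sub_cancel_left]
  exact (h.mW h2).2 (lc_anti S (by omega) (w e he))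

theorem mem_P : π g ∈ P ↔ g.1 ∈ S := ⟨fun ⟨x, hx, e⟩ => by
  simpa using S.mul_mem hx (lc_le S j (h.eq_iff.1 e)), fun H => ⟨g, H, rfl⟩⟩

theorem norm (hg : π g ∈ normalizer (P : Set Rˣ)) : g.1 ∈ normalizer (S : Set Γ) :=
  mem_normalizer_fintype fun x hx => (h.mem_P (g := g * ⟨x, h.mod.GL' hx⟩ * g⁻¹)).1 (by
    rw [map_mul, map_mul, map_inv]; exact conj_mem hg (h.mem_P.2 hx))

theorem syl : SylIn p P π.range := by
  have := (h.mod.syl.subgroupOf h.mod.GL').map π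
  rwa [subgroupOf_self, ← MonoidHom.range_eq_map] at this

theorem exists_spe : ∃ M : Subgroup Rˣ, P ≤ M ∧ ¬ π.range ≤ M ∧ ∀ g ∈ π.range, ∀ u ∈ M,
    IsPGroup p (zpowers u) → u ≠ 1 → g * u * g⁻¹ ∈ M → g ∈ M := by
  obtain ⟨M, h1, h2, h3⟩ := AMod.exists_spe h.am h.hl h.ess
  have h4 : ∀ g, π g ∈ M.map π → g ∈ M := fun g ⟨x, hx, e⟩ => by
    simpa using M.mul_mem hx (h1 (x := x⁻¹ * g) (lc_le S j (h.eq_iff.1 e)))
  refine ⟨M.map π, map_mono h1, fun H => h2 (eq_top_iff.2 fun g _ => h4 g (H ⟨g, rfl⟩)), ?_⟩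
  rintro _ ⟨g, rfl⟩ _ ⟨u, hu, rfl⟩ pu u1 H
  refine ⟨g, h3 g u hu ?_ (fun H => u1 (h.ker.2 H)) (h4 _ (by simpa using H)), rfl⟩
  obtain ⟨a, ha⟩ := pu ⟨_, mem_zpowers _⟩
  obtain ⟨b, hb⟩ := h.mod.pE ⟨_, h.ker.1 ((map_pow π u _).trans (congrArg Subtype.val ha))⟩
  exact pg_of_pow (n := a + b) (Subtype.ext (by simpa [pow_add, pow_mul] using congrArg Subtype.val hb))

theorem quad_false (h5 : 5 ≤ p) {y : L} (hy : y.1 ∈ S) (y1 : y.1 ∉ lc S j)
    (hc : ∀ x ∈ S, ⁅x, y.1⁆ ∈ lc S j) (h2 : ((π y : R) - 1) ^ 2 = 0)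
    (w : ∀ τ ∈ normalizer (S : Set Γ), Ew τ 1 (lc S j) y → ∀ a, Wt τ a (kc S 1) S →
      Wt τ (a * 1) (lc S (j + 1)) (lc S j)) : False := by
  have := h.jd
  have := h.j1
  have := h.d4
  obtain ⟨e, he, he'⟩ := exists_not_mem (mc_idx_lc h.mc h.j1 (by omega))
  obtain ⟨M, h3, h4, h6⟩ := h.exists_spe
  refine (h.flag he he').quad_false h5 h.d4 h.syl h3 h4 h6 (h.mem_P.2 h.sS) (h.mem_P.2 hy)
    (fun H => y1 (h.ker.1 H)) ?_ h2 ?_
  · rintro _ ⟨x, hx, rfl⟩
    exact h.comm_iff.2 (hc x hx)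
  rintro _ ⟨τ, rfl⟩ hn hτ
  have hn := h.norm hn
  obtain ⟨a, ha⟩ := exists_wt h.hl.pS (kc_le S 1) (mc_idx_kc h.mc le_rfl (by omega)) (n_kc hn 1) hn
  have w0 := w τ hn (by
    have := conj_mem' (S_n_lc S j hy) (h.comm_iff.1 hτ)
    simpa [Ew, commutatorElement_def, mul_assoc] using this) a ha
  have w1 := mc_wt_succ h.mc hn h.j1 (by omega) (mc_kc_eq h.mc h.j1 (by omega) ▸ ha) w0
  have w2 := mc_wt_succ h.mc hn (i := j + 1) (by omega) (by omega)
    (mc_kc_eq h.mc (i := j + 1) (by omega) (by omega) ▸ ha) w1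
  refine ⟨a, fun t ht v hv => ?_⟩
  interval_cases t
  · simpa using h.wt (t := 0) (by omega) w0 hv
  · simpa [sq] using h.wt (t := 1) (by omega) w1 hv
  · simpa [pow_succ'] using h.wt (t := 2) (by omega) w2 hv

theorem false (h5 : 5 ≤ p) : False := by
  have := h.jd
  have := h.j1
  have := h.d4
  have m := h.mc
  have i1 := mc_idx_max m (lc_le_kc S 1) (kc_le S 1) (mc_idx_kc m le_rfl (by omega))
  obtain ⟨e, he, he'⟩ := exists_not_mem (mc_idx_lc m h.j1 (by omega))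
  have sp : π s ^ p = 1 := (map_pow π s p).symm.trans (h.ker.2 h.sp)
  have pk := h.hl.pS.to_le (kc_le S 1)
  obtain ⟨y, hy, y1⟩ := exists_not_mem i1
  by_cases hj : j = 1
  · subst hj
    let y' : L := ⟨y, h.mod.GL' hy.1⟩
    have yp : π y' ^ p = 1 := (map_pow π _ p).symm.trans (h.ker.2 (mc_pow_one m hy.1))
    have nat : ∀ x : Rˣ, x ^ p = 1 → ∀ i : ℤ, ∃ a : ℕ, (a : ZMod p) = i ∧ x ^ i = x ^ a :=
      fun x hx i => ⟨(i : ZMod p).val, by simp, by
        rw [← zpow_natCast, ZMod.val_intCast, ← zpow_eq_zpow_emod' i hx]⟩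
    have gk : ∀ x : L, x.1 ∈ kc S 1 → ∃ b : ℕ, π x = π y' ^ b := fun x hx => by
      obtain ⟨a, ha, i, e⟩ := exists_eq_mul_zpow pk (lc_le_kc S 1) i1 hy y1 hx
      obtain ⟨b, -, hb⟩ := nat _ yp i
      refine ⟨b, ?_⟩
      rw [← hb, ← map_zpow, eq_comm, ← mul_inv_eq_one, ← map_inv, ← map_mul, h.ker]
      simpa [e, y'] using ha
    refine h.quad_false h5 (y := y') hy.1 y1 (fun x hx => cm_lc (i := 0) hx hy.1) (Two.quad
      ⟨h.flag he he', h.syl, fun N hN pN hn => ?_, h.mem_P.2 h.sS, h.mem_P.2 hy.1, ?_,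
        h.comm_iff.2 (cm_lc (i := 0) h.sS hy.1), sp, yp, fun H => y1 (h.ker.1 H), ?_, ?_⟩)
      fun τ hτ w a ha => mc_wt_one m hτ (kc_le S 1) (mc_idx_kc m le_rfl (by omega)) ha
        (w.wt_prime pk (lc_le_kc S 1) i1 hy y1 (n_lc hτ 1))
    · obtain ⟨M, h3, h4, h6⟩ := h.exists_spe
      have l := (h.syl.le_of_le_normalizer pN hN hn).trans h3
      exact eq_bot_iff.2 fun u hu => not_not.1 fun u1 => h4 fun g hg =>
        h6 g hg u (l hu) (pN.to_le (zpowers_le.2 hu)) u1 (l (conj_mem (hn hg) hu))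
    · rintro _ ⟨x, hx, rfl⟩
      obtain ⟨c, hc, i, e⟩ := exists_eq_mul_zpow h.hl.pS (kc_le S 1) (mc_idx_kc m le_rfl (by omega))
        (inv_mem h.sS) (fun H => h.su 1 le_rfl (by omega) (inv_mem_iff.1 H)) (inv_mem hx)
      obtain ⟨a, -, ha⟩ := nat _ sp i
      obtain ⟨b, hb⟩ := gk ⟨c⁻¹, h.mod.GL' (inv_mem hc).1⟩ (inv_mem hc)
      refine ⟨a, b, ?_⟩
      rw [← ha, ← hb, ← map_zpow, ← map_mul]
      exact congrArg π (Subtype.ext (by simpa [inv_eq_iff_eq_inv] using e))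
    · rw [h.cm y' he]
      exact (h.mW (cm_mem_right (h.am.norm y'.2) he)).2 (lc_anti S (by omega) ((mem_kc.1 hy).2 e he))
    · rintro _ ⟨τ, rfl⟩ hn
      have hn := h.norm hn
      obtain ⟨a, ha⟩ := exists_wt h.hl.pS (kc_le S 1) (mc_idx_kc m le_rfl (by omega)) (n_kc hn 1) hn
      obtain ⟨c, hc⟩ := exists_wt pk (lc_le_kc S 1) i1 (n_lc hn 1) (n_kc hn 1)
      obtain ⟨a', h1, h2⟩ := nat _ sp a
      obtain ⟨c', h3, h4⟩ := nat _ yp c
      obtain ⟨b, hb⟩ := gk ((s ^ a)⁻¹ * (τ * s * τ⁻¹)) (ha _ h.sS)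
      refine ⟨a', b, c', by rw [← h2, ← hb]; simp, ?_, ?_⟩
      · rw [← h4, ← map_inv, ← map_mul, ← map_mul, ← map_zpow, eq_comm, h.eq_iff]
        exact hc y hy
      · simpa [h1, h3] using h.wt (t := 0) (by omega)
          (mc_wt_one m hn (kc_le S 1) (mc_idx_kc m le_rfl (by omega)) ha hc) ((h.flag he he').mem0 _)
  obtain ⟨i, rfl⟩ : ∃ i, j = i + 2 := ⟨j - 2, by omega⟩
  obtain ⟨x, hx, h1, h2⟩ : ∃ x ∈ S, ⁅s.1⁻¹, x⁆ ∈ lc S (i + 1) ∧ ⁅s.1⁻¹, x⁆ ∉ lc S (i + 2) := by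
    obtain _ | i := i
    · exact ⟨y, hy.1, cm_lc (i := 0) (inv_mem h.sS) hy.1, fun H => mc_cm_two m (lc_le_kc S 1) (kc_le S 1)
        hy y1 (inv_mem h.sS) (fun H => h.su 1 le_rfl (by omega) (inv_mem_iff.1 H)) (cm_swap H)⟩
    · obtain ⟨x, hx, hx'⟩ := exists_not_mem (mc_idx_lc m (i := i + 1) (by omega) (by omega))
      exact ⟨x, lc_le S _ hx, cm_swap (cm_lc hx (inv_mem h.sS)), fun H => mc_cm_not m (by omega)
        (inv_mem h.sS) (fun H => h.su _ (by omega) (by omega) (inv_mem_iff.1 H)) hx hx' (cm_swap H)⟩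
  let x' : L := ⟨x, h.mod.GL' hx⟩
  refine h.quad_false h5 (y := ⁅s⁻¹, x'⁆) (lc_le S _ h1) h2 (fun z hz => cm_swap (cm_lc h1 hz))
    ((h.flag he he').quad_of sp (h.fl (g := x') hx) (h.fl (lc_le S _ h1)) ?_
      (h.comm_iff.2 (cm_lc h1 h.sS)) (h.comm_iff.2 (cm_lc h1 hx)))
    fun τ hτ w a ha => mc_wt_succ m hτ (by omega) (by omega)
      (mc_kc_eq m (i := i + 1) (by omega) (by omega) ▸ ha) (w.wt_prime (h.hl.pS.to_le (lc_le S _))
        (lc_anti S (Nat.le_succ _)) (mc_idx_lc m (by omega) (by omega)) h1 h2 (n_lc hτ _))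
  simp [commutatorElement_def, mul_assoc]

end Cf

theorem LR.not_lc (hl : LR p F) (h5 : 5 ≤ p) (m : MC S p n) (hj : 1 ≤ j)
    (hE : F.IsEssential p (lc S j)) : False := by
  obtain ⟨L, h⟩ := hl.ex _ hE.1 hE.2.1
  have := m.three
  have l : lc S (n - 2) ≤ lc S j := mc_center m ▸ fun x hx => essential_mem_of_comm hE hx.1
    fun y hy => hx.2 y (lc_le S j hy)
  have c := card_le_of_le' l
  rw [mc_card_lc m hj, mc_card_lc m (by omega), Nat.pow_le_pow_iff_right hp.out.one_lt] at c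
  obtain ⟨i, i1, i2, e⟩ := mc_normal_eq m ((map_subtype_le (frattini _)).trans (lc_le S j))
    ((S_n_lc S j).trans (Core.normalizer_le_normalizer_map_frattini _))
    ((card_le_of_le' (map_subtype_le _)).trans (by
      rw [mc_card_lc m hj]; exact Nat.pow_le_pow_right hp.out.pos (by omega)))
  have c' := card_le_of_le' (e ▸ map_subtype_le (frattini (lc S j)))
  rw [mc_card_lc m hj, mc_card_lc m i1, Nat.pow_le_pow_iff_right hp.out.one_lt] at c'
  obtain ⟨d, rfl⟩ : ∃ d, i = j + d := ⟨i - j, by omega⟩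
  by_cases hd : 4 ≤ d
  · obtain ⟨V, _, _, _, q, π, sb, h1⟩ := exists_lin h.pE h.EL h.norm
    obtain ⟨s, hs, h2, h3⟩ := mc_exists_unif m
    exact Cf.false (s := ⟨s, h.GL' ⟨hs, S_n_lc S j hs⟩⟩) ⟨h1, hl, hE, h, m, hj, i2, hd, e, hs, l h2, h3⟩ h5
  obtain ⟨M, hM⟩ := essential_essAut hl.pS hl.sat hE
  have h1 := relIndex_Inn_of_rank_three hM h.pE (by omega) (by
    have := relIndex_eq_of_card (map_subtype_le (frattini (lc S j))) (b := p ^ d)
      (e ▸ mc_card_lc m i1) (by rw [mc_card_lc m hj, ← pow_add]; congr 1; omega)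
    rw [relIndex, show ((frattini (lc S j)).map (lc S j).subtype).subgroupOf (lc S j) = _ from
      comap_map_eq_self_of_injective (subtype_injective _) _] at this
    exact this ▸ Nat.pow_le_pow_right hp.out.pos (by omega))
  rw [centric_relIndex_Inn hE.1, normalizerIn_eq (S_n_lc S j)] at h1
  have h2 := Nat.le_of_dvd hp.out.pos (h1 ▸ mc_idx_one m ▸ relIndex_dvd_of_le_left S (lc_anti S hj))
  nlinarith

theorem LR.normal_essential (hl : LR p F) (h5 : 5 ≤ p) (m : MC S p n) (h4 : 4 ≤ n)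
    (hE : F.IsEssential p E) (hn : S ≤ normalizer (E : Set Γ)) : E.relIndex S = p ∧
      (E = kc S 1 ∨ E = kc S (n - 3) ∨ (n = 4 ∧ MC E p 3 ∧ ∀ x ∈ E, x ^ p = 1)) := by
  have hi : E.relIndex S = p := by
    by_contra H
    obtain ⟨k, hk⟩ := exists_relIndex_eq hl.pS E
    have h1 := Core.card_mul_relIndex_of_le hE.1.1
    obtain ⟨i, i1, -, rfl⟩ := mc_normal_eq m hE.1.1 hn (by
      obtain _ | _ | k := k
      · exact absurd (relIndex_eq_one.1 hk) (essential_lt hl.pS hl.sat hE).not_ge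
      · exact absurd (hk.trans (pow_one p)) H
      refine Nat.le_of_mul_le_mul_right ?_ (pow_pos hp.out.pos (k + 1 + 1))
      rw [← hk, h1, hk, m.card, ← pow_add]
      exact Nat.pow_le_pow_right hp.out.pos (by omega))
    exact LR.not_lc hl h5 m i1 hE
  refine ⟨hi, or_iff_not_imp_left.2 fun h1 => or_iff_not_imp_left.2 fun h2 => ?_⟩
  have m' := mc_max m h4 hE.1.1 hi h1 h2
  obtain rfl : n = 4 := le_antisymm (le_of_not_gt fun H => hl.not_mc hE m' (by omega)) h4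
  have l := mc_lc_le m hE.1.1 hi
  refine ⟨rfl, m', LR.exp_of_cube hl (by omega) hE m' l (mc_idx_max m l hE.1.1 hi) fun x hx => ?_⟩
  have := mem_lc.1 (m.pow_mem le_rfl (g := ⟨x, lc_le S 1 hx⟩) (mem_lc.2 hx))
  rwa [mc_lc_bot m (by omega)] at this

end CfsgLib.Fus4
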