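import Mathlib
import Cfsg.Agent.Lib.Fus4.Main
import Cfsg.Agent.Lib.MaxCl.Dich

/-!
Transport of two-step centralisers along isomorphisms of fusion systems.
-/

set_option autoImplicit false
set_option linter.unusedSectionVars false

namespace CfsgLib.Fus4

open Subgroup Cfsg CfsgLib.LAE CfsgLib.Fusion CfsgLib.MaxCl CfsgLib.Fus2
open Cfsg.FusionSystem hiding inv_mem
open scoped commutatorElement

variable {Ω Γ : Type*} [Group Ω] [Group Γ] {S E : Subgroup Ω} {F : FusionSystem S} {t : Ω → Γ}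
  {F' : FusionSystem (img S t)} {p n i : ℕ} [hp : Fact p.Prime]

theorem fac_mem_kc (h : IsFactor F ⊥ t F') {x : Ω} (hx : x ∈ S) :
    t x ∈ kc (img S t) i ↔ x ∈ kc S i :=
  ⟨fun H => mem_kc'.1 (equiv_mem_K (facEquiv h le_rfl) (g := ⟨x, hx⟩) (mem_kc'.2 H)), fun H =>
    mem_kc'.1 (equiv_mem_K (facEquiv h le_rfl).symm (g := facEquiv h le_rfl ⟨x, hx⟩)
      (by rw [MulEquiv.symm_apply_apply]; exact mem_kc'.2 H))⟩

theorem fac_eq_kc (h : IsFactor F ⊥ t F') (hE : E ≤ S) : img E t = kc (img S t) i ↔ E = kc S i := by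
  have : img (kc S i) t = kc (img S t) i := by
    refine le_antisymm (img_le_iff.2 fun x hx => (fac_mem_kc h hx.1).2 hx) fun y hy => ?_
    obtain ⟨x, hx, rfl⟩ := h.exists_eq hy.1
    exact mem_img_of_mem t ((fac_mem_kc h hx).1 hy)
  rw [← this]
  exact h.hom.img_inj h.injOn hE (kc_le S i)

theorem fac_relIndex [Finite S] (h : IsFactor F ⊥ t F') (hE : E ≤ S) :
    (img E t).relIndex (img S t) = E.relIndex S := by
  have := Fusion.finite_of_le hE
  have e1 := Core.card_mul_relIndex_of_le (h.img_le hE)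
  rw [h.iso_card hE, h.iso_card le_rfl, ← Core.card_mul_relIndex_of_le hE] at e1
  exact Nat.eq_of_mul_eq_mul_left Nat.card_pos e1

theorem eq_kc_one {Γ₁ : Subgroup Ω} (h : ∀ x : Ω, x ∈ Γ₁ ↔ x ∈ S ∧ ∀ y ∈ S.lowerCentralSeries 1,
    x * y * x⁻¹ * y⁻¹ ∈ S.lowerCentralSeries 3) : kc S 1 = Γ₁ :=
  ext fun x => mem_kc.trans (h x).symm

theorem kc_last_eq [Finite S] (m : MC S p n) (h4 : 4 ≤ n) : kc S (n - 3) =
    S ⊓ centralizer ((Subgroup.upperCentralSeries S 2).map S.subtype : Set Ω) := by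
  ext x
  rw [mc_ucs_two_eq m h4, map_L, mem_kc, ← map_L S (n - 3 + 2), m.L_eq_bot (i := n - 3 + 2) (by omega),
    Subgroup.map_bot]
  exact and_congr_right fun _ => ⟨fun H => mem_centralizer_of_cm H, fun H _ => cm_eq_one H⟩

end CfsgLib.Fus4
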